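import Cfsg.Agent.Lib.Linear.OrthMax
import Cfsg.Agent.Lib.Linear.OrthTrans
import Cfsg.Agent.Lib.Linear.SingularVectors

/-!
# Frames: orthogonal bases of vectors of one norm, and the class of their reflections

`Ctx Q B e ν H`: `e` is an orthogonal basis with `Q (e i) = ν`, and `H` is a subgroup of the isometry
group containing the elements of `Ω` permuting the lines of `e`.
-/

set_option autoImplicit false

namespace Cfsg.Lib.Linear.FrameMax

open Module Cfsg.Lib.Linear.Orth
open scoped Matrix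

variable {ι : Type} [Fintype ι] [DecidableEq ι] {F : Type*} [Field F]
  {Q : (ι → F) → F} {B : LinearMap.BilinForm F (ι → F)}
  {n : ℕ} {e : Fin n → (ι → F)} {ν : F}

/-- An orthogonal basis of vectors of norm `ν`. -/
structure Frame (Q : (ι → F) → F) (B : LinearMap.BilinForm F (ι → F)) (e : Fin n → (ι → F))
    (ν : F) : Prop where
  space : Space Q B
  two : (2 : F) ≠ 0
  norm : ∀ i, Q (e i) = ν
  nu : ν ≠ 0
  orth : ∀ i j, i ≠ j → B (e i) (e j) = 0
  big : 10 ≤ n
  card : Fintype.card ι = n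

/-- The coordinate of `x` at `e i`. -/
noncomputable def co (B : LinearMap.BilinForm F (ι → F)) (e : Fin n → (ι → F)) (ν : F) (i : Fin n)
    (x : ι → F) : F := (2 * ν)⁻¹ * B (e i) x

open Classical in
/-- The support of `x`. -/
noncomputable def supp (B : LinearMap.BilinForm F (ι → F)) (e : Fin n → (ι → F)) (ν : F)
    (x : ι → F) : Finset (Fin n) := Finset.univ.filter fun i => co B e ν i x ≠ 0

/-- Four times the square of a coordinate. -/
noncomputable def val (B : LinearMap.BilinForm F (ι → F)) (e : Fin n → (ι → F)) (ν : F) (i : Fin n)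
    (x : ι → F) : F := 4 * co B e ν i x ^ 2

theorem mem_supp {x : ι → F} {i : Fin n} : i ∈ supp B e ν x ↔ co B e ν i x ≠ 0 := by
  classical simp [supp]

theorem not_mem_supp {x : ι → F} {i : Fin n} : i ∉ supp B e ν x ↔ co B e ν i x = 0 := by
  classical simp [supp]

theorem co_add (i : Fin n) (x y : ι → F) : co B e ν i (x + y) = co B e ν i x + co B e ν i y := by
  simp [co, mul_add]

theorem co_sub (i : Fin n) (x y : ι → F) : co B e ν i (x - y) = co B e ν i x - co B e ν i y := by
  simp [co, mul_sub]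

theorem co_smul (i : Fin n) (c : F) (x : ι → F) : co B e ν i (c • x) = c * co B e ν i x := by
  simp [co]; ring

theorem co_neg (i : Fin n) (x : ι → F) : co B e ν i (-x) = -co B e ν i x := by
  simp [co]

theorem co_sum {κ : Type*} (i : Fin n) (s : Finset κ) (f : κ → ι → F) :
    co B e ν i (∑ j ∈ s, f j) = ∑ j ∈ s, co B e ν i (f j) := by
  simp [co, map_sum, Finset.mul_sum]

variable (X : Frame Q B e ν)

include X

theorem Frame.two_nu : (2 : F) * ν ≠ 0 := mul_ne_zero X.two X.nu

theorem Frame.four : (4 : F) ≠ 0 := by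
  rw [show (4 : F) = 2 * 2 by norm_num]; exact mul_ne_zero X.two X.two

theorem Frame.self (i : Fin n) : B (e i) (e i) = 2 * ν := by rw [X.space.self, X.norm]

theorem Frame.Qne (i : Fin n) : Q (e i) ≠ 0 := by rw [X.norm]; exact X.nu

theorem Frame.five : 5 ≤ Fintype.card ι := by rw [X.card]; have := X.big; omega

theorem Frame.co_e (i j : Fin n) : co B e ν i (e j) = if i = j then 1 else 0 := by
  unfold co
  split_ifs with h
  · rw [h, X.self, inv_mul_cancel₀ X.two_nu]
  · rw [X.orth i j h, mul_zero]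

theorem Frame.B_e (i : Fin n) (x : ι → F) : B (e i) x = 2 * ν * co B e ν i x := by
  unfold co; rw [← mul_assoc, mul_inv_cancel₀ X.two_nu, one_mul]

theorem Frame.indep : LinearIndependent F e := by
  classical
  rw [Fintype.linearIndependent_iff]
  intro g hg i
  have h := congrArg (co B e ν i) hg
  rw [co_sum, show co B e ν i 0 = 0 by simp [co]] at h
  simpa [co_smul, X.co_e] using h

theorem Frame.span_top : Submodule.span F (Set.range e) = ⊤ :=
  X.indep.span_eq_top_of_card_eq_finrank' (by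
    rw [Fintype.card_fin, finrank_fintype_fun_eq_card, X.card])

theorem Frame.eq_zero {x : ι → F} (h : ∀ i, co B e ν i x = 0) : x = 0 := by
  refine X.space.nondeg' fun v => ?_
  have hle : Submodule.span F (Set.range e) ≤ LinearMap.ker (B x) := Submodule.span_le.mpr (by
    rintro _ ⟨i, rfl⟩
    rw [SetLike.mem_coe, LinearMap.mem_ker, X.space.symm, X.B_e, h, mul_zero])
  rw [X.span_top] at hle
  exact LinearMap.mem_ker.mp (hle Submodule.mem_top)

theorem Frame.expand (x : ι → F) : ∑ i, co B e ν i x • e i = x := by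
  classical
  refine sub_eq_zero.mp (X.eq_zero fun i => ?_)
  rw [co_sub, co_sum]
  simp [co_smul, X.co_e]

theorem Frame.ext {x y : ι → F} (h : ∀ i, co B e ν i x = co B e ν i y) : x = y :=
  sub_eq_zero.mp (X.eq_zero fun i => by rw [co_sub, h, sub_self])

theorem Frame.B_co (x y : ι → F) : B x y = 2 * ν * ∑ i, co B e ν i x * co B e ν i y := by
  conv_lhs => rw [← X.expand x]
  rw [map_sum, LinearMap.sum_apply, Finset.mul_sum]
  refine Finset.sum_congr rfl fun i _ => ?_
  rw [map_smul, LinearMap.smul_apply, X.B_e, smul_eq_mul]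
  ring

theorem Frame.Q_co (x : ι → F) : Q x = ν * ∑ i, co B e ν i x ^ 2 := by
  have h := X.space.self x
  rw [X.B_co] at h
  refine mul_left_cancel₀ X.two ?_
  rw [← h, ← mul_assoc]
  congr 1
  exact Finset.sum_congr rfl fun i _ => (sq (co B e ν i x)).symm

theorem Frame.sum_sq {x : ι → F} (hx : Q x = ν) : ∑ i, co B e ν i x ^ 2 = 1 := by
  rw [X.Q_co] at hx
  exact mul_left_cancel₀ X.nu (hx.trans (mul_one ν).symm)

theorem Frame.sum_supp {x : ι → F} : ∑ i ∈ supp B e ν x, co B e ν i x ^ 2 = ∑ i, co B e ν i x ^ 2 :=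
  Finset.sum_subset (Finset.subset_univ _) fun i _ hi => by
    rw [not_mem_supp.mp hi]; ring

theorem Frame.sum_val {x : ι → F} (hx : Q x = ν) : ∑ i ∈ supp B e ν x, val B e ν i x = 4 := by
  simp only [val]
  rw [← Finset.mul_sum, X.sum_supp, X.sum_sq hx, mul_one]

theorem Frame.co_refl (i j : Fin n) (x : ι → F) :
    co B e ν j ((rGL Q (e i)).val *ᵥ x) = if j = i then -co B e ν j x else co B e ν j x := by
  rw [rGL_act X.space (X.Qne i), X.norm, co_sub, co_smul, X.co_e, X.B_e]
  split_ifs with h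
  · subst h
    have := X.nu
    field_simp
    ring
  · simp

theorem Frame.Q_refl (i : Fin n) (x : ι → F) : Q ((rGL Q (e i)).val *ᵥ x) = Q x :=
  mem_iso.mp (rGL_mem X.space (X.Qne i)) x

/-- The difference of two frame vectors has norm `2ν`. -/
theorem Frame.Q_root {i j : Fin n} (h : i ≠ j) (σ : F) (hσ : σ ^ 2 = 1) :
    Q (e i + σ • e j) = 2 * ν := by
  rw [X.space.add, X.space.smul, map_smul, X.orth i j h, hσ, X.norm, X.norm, smul_zero]
  ring

theorem Frame.root_ne {i j : Fin n} (h : i ≠ j) (σ : F) (hσ : σ ^ 2 = 1) :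
    Q (e i + σ • e j) ≠ 0 := by
  rw [X.Q_root h σ hσ]; exact X.two_nu

/-- The action of the reflection in `e i + σ e j`. -/
theorem Frame.co_root {i j : Fin n} (h : i ≠ j) (σ : F) (hσ : σ ^ 2 = 1) (l : Fin n) (x : ι → F) :
    co B e ν l ((rGL Q (e i + σ • e j)).val *ᵥ x) =
      if l = i then -σ * co B e ν j x else if l = j then -σ * co B e ν i x else co B e ν l x := by
  rw [rGL_act X.space (X.root_ne h σ hσ), X.Q_root h σ hσ, co_sub, co_smul, co_add, co_smul, X.co_e,
    X.co_e, map_add, LinearMap.add_apply, map_smul, LinearMap.smul_apply, X.B_e, X.B_e, smul_eq_mul]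
  have := X.nu
  have := X.two
  split_ifs with h1 h2 h3
  · exact absurd (h1 ▸ h2) h
  · subst h1; field_simp; ring
  · subst h3; field_simp; linear_combination (-(co B e ν l x)) * hσ
  · ring

omit X

/-- A subgroup of the isometry group containing the stabiliser in `Ω`. -/
structure Ctx (Q : (ι → F) → F) (B : LinearMap.BilinForm F (ι → F)) (e : Fin n → (ι → F)) (ν : F)
    (H : Subgroup (GL ι F)) : Prop where
  frame : Frame Q B e ν
  le_iso : H ≤ isometryGroup F Q
  le : Cfsg.Geo.decompositionStabilizer (fun i => Submodule.span F {e i}) ⊓ Cfsg.Geo.omegaGL Q ≤ H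
  prime : ∀ c : F, ∃ m : ℕ, c = (m : F)

theorem Frame.mem_stab (X : Frame Q B e ν) {g : GL ι F} (π : Equiv.Perm (Fin n))
    (h : ∀ i, ∃ s : F, s ≠ 0 ∧ g.val *ᵥ e i = s • e (π i)) :
    g ∈ Cfsg.Geo.decompositionStabilizer (fun i => Submodule.span F {e i}) := by
  refine ⟨π, fun i => ?_⟩
  obtain ⟨s, hs, hse⟩ := h i
  rw [Submodule.map_span, Set.image_singleton, Matrix.toLin'_apply, hse,
    Submodule.span_singleton_smul_eq (Ne.isUnit hs)]

/-- Every element of the stabiliser is monomial. -/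
theorem Frame.of_stab {g : GL ι F}
    (hg : g ∈ Cfsg.Geo.decompositionStabilizer (fun i => Submodule.span F {e i})) :
    ∃ π : Equiv.Perm (Fin n), ∀ i, ∃ s : F, g.val *ᵥ e i = s • e (π i) := by
  obtain ⟨π, hπ⟩ := hg
  refine ⟨π, fun i => ?_⟩
  have h : g.val *ᵥ e i ∈ Submodule.span F {e (π i)} := by
    have h' : g.val *ᵥ e i ∈ (Submodule.span F {e i}).map (Matrix.toLin' g.val) :=
      ⟨e i, Submodule.mem_span_singleton_self _, Matrix.toLin'_apply _ _⟩
    have h'' := hπ i
    simp only at h''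
    rwa [h''] at h'
  obtain ⟨s, hs⟩ := Submodule.mem_span_singleton.mp h
  exact ⟨s, hs.symm⟩

/-- The class of the frame vectors. -/
def Cls (Q : (ι → F) → F) (e : Fin n → (ι → F)) (ν : F) (H : Subgroup (GL ι F)) (x : ι → F) : Prop :=
  Q x = ν ∧ ∀ i, rGL Q x * rGL Q (e i) ∈ H

/-- The vectors of the class which are allowed. -/
def Std (B : LinearMap.BilinForm F (ι → F)) (e : Fin n → (ι → F)) (ν : F) (x : ι → F) : Prop :=
  (supp B e ν x).card = 1 ∨ ((supp B e ν x).card = 2 ∧ ∀ i ∈ supp B e ν x, val B e ν i x = 2)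

section Ctx

variable [Finite F] {H : Subgroup (GL ι F)} (T : Ctx Q B e ν H)

include T

theorem Ctx.rr_frame (i j : Fin n) : rGL Q (e i) * rGL Q (e j) ∈ H := by
  have X := T.frame
  refine T.le ⟨X.mem_stab 1 fun l => ?_, ?_⟩
  · refine ⟨(if l = i then -1 else 1) * (if l = j then -1 else 1), by split_ifs <;> norm_num, ?_⟩
    refine X.ext fun m => ?_
    rw [mul_act, X.co_refl, X.co_refl, co_smul, Equiv.Perm.one_apply, X.co_e]
    split_ifs with h1 h2 h3 h4 h5 h6 <;> simp_all
  · rw [omegaGL_eq X.space X.five, ← comm_eq_root X.space X.five]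
    exact rGL_mul_rGL_mem X.space X.five (X.Qne i) (by rw [X.norm, X.norm])

/-- Two transpositions. -/
theorem Ctx.rr_root {i j k l : Fin n} (hij : i ≠ j) (hkl : k ≠ l) {σ τ : F} (hσ : σ ^ 2 = 1)
    (hτ : τ ^ 2 = 1) : rGL Q (e i + σ • e j) * rGL Q (e k + τ • e l) ∈ H := by
  have X := T.frame
  have one : ∀ {i j : Fin n} {σ : F}, i ≠ j → σ ^ 2 = 1 →
      rGL Q (e i + σ • e j) ∈ Cfsg.Geo.decompositionStabilizer (fun i => Submodule.span F {e i}) := by
    intro i j σ hij hσ
    refine X.mem_stab (Equiv.swap i j) fun m => ⟨if m = i ∨ m = j then -σ else 1, ?_, X.ext fun q => ?_⟩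
    · split_ifs
      · exact neg_ne_zero.mpr (fun h => by rw [h] at hσ; simp at hσ)
      · exact one_ne_zero
    · rw [X.co_root hij σ hσ, co_smul, X.co_e, X.co_e, X.co_e, X.co_e]
      by_cases h1 : m = i
      · subst h1
        rw [Equiv.swap_apply_left]
        split_ifs <;> simp_all
      by_cases h2 : m = j
      · subst h2
        rw [Equiv.swap_apply_right]
        split_ifs <;> simp_all
      rw [Equiv.swap_apply_of_ne_of_ne h1 h2]
      split_ifs <;> simp_all
  refine T.le ⟨mul_mem (one hij hσ) (one hkl hτ), ?_⟩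
  rw [omegaGL_eq X.space X.five, ← comm_eq_root X.space X.five]
  exact rGL_mul_rGL_mem X.space X.five (X.root_ne hij σ hσ)
    (by rw [X.Q_root hij σ hσ, X.Q_root hkl τ hτ])

theorem Ctx.cls_e (i : Fin n) : Cls Q e ν H (e i) := ⟨T.frame.norm i, T.rr_frame i⟩

theorem Ctx.cls_of_one {x : ι → F} {i : Fin n} (hx : Q x = ν)
    (h : rGL Q x * rGL Q (e i) ∈ H) : Cls Q e ν H x :=
  ⟨hx, fun j => by
    have := mul_mem h (T.rr_frame i j)
    rwa [← mul_assoc, mul_assoc (rGL Q x), rGL_sq T.frame.space (T.frame.Qne i), mul_one] at this⟩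

omit [Finite F] in
theorem Cls.pair {x y : ι → F} (hx : Cls Q e ν H x) (hy : Cls Q e ν H y) :
    rGL Q x * rGL Q y ∈ H := by
  have X := T.frame
  obtain ⟨i⟩ : Nonempty (Fin n) := ⟨⟨0, by have := X.big; omega⟩⟩
  have h := mul_mem (hx.2 i) (inv_mem (hy.2 i))
  rwa [mul_inv_rev, rGL_inv X.space (X.Qne i), rGL_inv X.space (hy.1 ▸ X.nu), ← mul_assoc,
    mul_assoc (rGL Q x), rGL_sq X.space (X.Qne i), mul_one] at h

theorem Cls.act {x : ι → F} (hx : Cls Q e ν H x) {g : GL ι F} (hg : g ∈ H) {i : Fin n}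
    (hgi : Cls Q e ν H (g.val *ᵥ e i)) : Cls Q e ν H (g.val *ᵥ x) := by
  have X := T.frame
  have hI := T.le_iso hg
  refine ⟨by rw [mem_iso.mp hI, hx.1], fun j => ?_⟩
  have h := mul_mem (mul_mem hg (hx.2 i)) (inv_mem hg)
  rw [show g * (rGL Q x * rGL Q (e i)) * g⁻¹ = g * rGL Q x * g⁻¹ * (g * rGL Q (e i) * g⁻¹) by group,
    rGL_conj X.space (hx.1 ▸ X.nu) hI, rGL_conj X.space (X.Qne i) hI] at h
  have := mul_mem h (hgi.2 j)
  rwa [← mul_assoc, mul_assoc (rGL Q _), rGL_sq X.space (by rw [mem_iso.mp hI, X.norm]; exact X.nu),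
    mul_one] at this

theorem Cls.refl {x y : ι → F} (hx : Cls Q e ν H x) (hy : Cls Q e ν H y) :
    Cls Q e ν H ((rGL Q x).val *ᵥ y) := by
  have X := T.frame
  have C := X.space
  have hQx : Q x ≠ 0 := hx.1 ▸ X.nu
  have hI := rGL_mem C hQx
  refine ⟨by rw [mem_iso.mp hI, hy.1], fun i => ?_⟩
  rw [← rGL_conj C (hy.1 ▸ X.nu) hI, rGL_inv C hQx]
  have := mul_mem (hx.pair T hy) (hx.2 i)
  simpa [mul_assoc] using this

theorem Cls.flip {x : ι → F} (hx : Cls Q e ν H x) (i : Fin n) :
    Cls Q e ν H ((rGL Q (e i)).val *ᵥ x) := (T.cls_e i).refl T hx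

open Classical in
theorem Cls.flips {x : ι → F} (hx : Cls Q e ν H x) (A : Finset (Fin n)) :
    ∃ y, Cls Q e ν H y ∧ ∀ l, co B e ν l y = if l ∈ A then -co B e ν l x else co B e ν l x := by
  induction A using Finset.induction with
  | empty => exact ⟨x, hx, fun l => by simp⟩
  | insert a A ha ih =>
    obtain ⟨y, hy, hyc⟩ := ih
    refine ⟨_, hy.flip T a, fun l => ?_⟩
    rw [T.frame.co_refl, hyc]
    by_cases h : l = a
    · subst h; simp [ha]
    · simp [h]

/-- Singular difference: a root element. -/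
theorem Cls.root {x y : ι → F} (hx : Cls Q e ν H x) (hy : Cls Q e ν H y) (hu : Q (y - x) = 0) :
    B (y - x) (ν⁻¹ • x) = 0 ∧ sGL Q B (y - x) (ν⁻¹ • x) ∈ H := by
  have X := T.frame
  have C := X.space
  have hQx : Q x ≠ 0 := hx.1 ▸ X.nu
  have hB : B (y - x) x = 0 := by
    have h := C.add (y - x) x
    rw [sub_add_cancel, hu, hx.1, hy.1, zero_add] at h
    exact add_eq_left.mp h.symm
  have hB' : B (y - x) (ν⁻¹ • x) = 0 := by rw [map_smul, hB, smul_zero]
  refine ⟨hB', ?_⟩
  set u := ν⁻¹ • (y - x) with hu'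
  have hQu : Q u = 0 := by rw [hu', C.smul, hu, mul_zero]
  have hux : B u x = 0 := by rw [hu', map_smul, LinearMap.smul_apply, hB, smul_zero]
  obtain ⟨-, hr⟩ := rGL_mul_rGL C hQx hQu hux
  rw [show x + Q x • u = y by rw [hu', hx.1, smul_smul, mul_inv_cancel₀ X.nu, one_smul]; abel] at hr
  have hmem := hx.pair T hy
  rwa [hr, hu', sGL_smul C hu hB] at hmem

end Ctx

end Cfsg.Lib.Linear.FrameMax
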