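import Cfsg.Agent.Lib.Linear.FrameMax.Plane

/-!
# The class of the frame vectors is standard
-/

set_option autoImplicit false

namespace Cfsg.Lib.Linear.FrameMax

open Module Cfsg.Lib.Linear.Orth
open scoped Matrix

variable {ι : Type} [Fintype ι] [DecidableEq ι] {F : Type*} [Field F]
  {Q : (ι → F) → F} {B : LinearMap.BilinForm F (ι → F)}
  {n : ℕ} {e : Fin n → (ι → F)} {ν : F} {H : Subgroup (GL ι F)}

theorem supp_val {x : ι → F} {l : Fin n} (h4 : (4 : F) ≠ 0) :
    l ∈ supp B e ν x ↔ val B e ν l x ≠ 0 := by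
  rw [mem_supp, val]
  simp [h4]

theorem exists_outside {S : Finset (Fin n)} (h : S.card < n) : ∃ j, j ∉ S := by
  by_contra hc
  push Not at hc
  have := Finset.card_le_card (fun a (_ : a ∈ (Finset.univ : Finset (Fin n))) => hc a)
  rw [Finset.card_univ, Fintype.card_fin] at this
  omega

section Ctx

variable [Finite F] (T : Ctx Q B e ν H) (hΩ : ¬ Cfsg.Geo.omegaGL Q ≤ H)
  (p : ℕ) [Fact p.Prime] [CharP F p]

omit [Fintype ι] [DecidableEq ι] [Finite F] in
theorem cast_ne {m : ℕ} (h : ¬ p ∣ m) : (m : F) ≠ 0 := fun h0 =>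
  h ((CharP.cast_eq_zero_iff F p m).mp h0)

omit [Fintype ι] [DecidableEq ι] [Finite F] in
theorem num_ne (m : ℕ) [m.AtLeastTwo] (h : ¬ p ∣ m) : (OfNat.ofNat m : F) ≠ 0 := by
  rw [← Nat.cast_ofNat]
  exact cast_ne p h

include T

theorem Ctx.swap {x : ι → F} (hx : Cls Q e ν H x) {a b c d : Fin n} (hab : a ≠ b) (hcd : c ≠ d)
    (hac : a ≠ c) (had : a ≠ d) (hbc : b ≠ c) (hbd : b ≠ d) :
    ∃ y, Cls Q e ν H y ∧ ∀ l, co B e ν l y =
      if l = a then co B e ν b x else if l = b then co B e ν a x
      else if l = c then co B e ν d x else if l = d then co B e ν c x else co B e ν l x := by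
  classical
  have X := T.frame
  have h1 : ((-1 : F)) ^ 2 = 1 := by norm_num
  obtain ⟨o, ho⟩ := exists_outside (S := {a, b, c, d}) (by
    have := Finset.card_le_four (a := a) (b := b) (c := c) (d := d)
    have := X.big
    omega)
  simp only [Finset.mem_insert, Finset.mem_singleton, not_or] at ho
  obtain ⟨o1, o2, o3, o4⟩ := ho
  have hco : ∀ z l, co B e ν l ((rGL Q (e a + (-1 : F) • e b) *
      rGL Q (e c + (-1 : F) • e d)).val *ᵥ z) = if l = a then co B e ν b z
        else if l = b then co B e ν a z else if l = c then co B e ν d z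
        else if l = d then co B e ν c z else co B e ν l z := by
    intro z l
    rw [mul_act, X.co_root hab _ h1, X.co_root hcd _ h1, X.co_root hcd _ h1, X.co_root hcd _ h1,
      neg_neg, one_mul, one_mul, one_mul, one_mul, if_neg hbc, if_neg hbd, if_neg hac, if_neg had]
  refine ⟨_, hx.act T (T.rr_root hab hcd h1 h1) (i := o) ?_, hco x⟩
  have : (rGL Q (e a + (-1 : F) • e b) * rGL Q (e c + (-1 : F) • e d)).val *ᵥ e o = e o := by
    refine X.ext fun l => ?_
    rw [hco]
    simp only [X.co_e]
    split_ifs <;> simp_all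
  rw [this]
  exact T.cls_e o

open Classical in
theorem Ctx.refl_flip {x : ι → F} (hx : Cls Q e ν H x) (A : Finset (Fin n)) :
    ∃ z, Cls Q e ν H z ∧ ∀ l, val B e ν l z =
      if l ∈ A then ((∑ i ∈ A, val B e ν i x) - 3) ^ 2 * val B e ν l x
      else ((∑ i ∈ A, val B e ν i x) - 1) ^ 2 * val B e ν l x := by
  have X := T.frame
  obtain ⟨y, hy, hyc⟩ := hx.flips T A
  set W := ∑ i ∈ A, val B e ν i x with hW
  have hs : ∑ i, co B e ν i x * co B e ν i y = 1 - W / 2 := by
    have h1 : ∀ i, co B e ν i x * co B e ν i y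
        = co B e ν i x ^ 2 - (if i ∈ A then val B e ν i x / 2 else 0) := by
      intro i
      rw [hyc i]
      have := X.two
      split_ifs
      · rw [val]; field_simp; ring
      · ring
    rw [Finset.sum_congr rfl fun i _ => h1 i, Finset.sum_sub_distrib, X.sum_sq hx.1,
      Finset.sum_ite_mem, Finset.univ_inter, ← Finset.sum_div]
  refine ⟨_, hx.refl T hy, fun l => ?_⟩
  have hc : co B e ν l ((rGL Q x).val *ᵥ y) = co B e ν l y - (2 - W) * co B e ν l x := by
    rw [rGL_act X.space (hx.1 ▸ X.nu), co_sub, co_smul, X.B_co, hs, hx.1]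
    have := X.nu
    have := X.two
    field_simp
  simp only [val, hc, hyc l]
  split_ifs <;> ring

include hΩ

/-- No proper small zero-sum in the support. -/
theorem Ctx.zero_sum {x : ι → F} (hx : Cls Q e ν H x) (A : Finset (Fin n))
    (hA : A ⊆ supp B e ν x) (hA0 : A.Nonempty) {k : Fin n} (hk : k ∈ supp B e ν x) (hkA : k ∉ A)
    (h4 : A.card + 4 ≤ n) (hsum : ∑ i ∈ A, val B e ν i x = 0) : False := by
  classical
  have X := T.frame
  obtain ⟨y, hy, hyc⟩ := hx.flips T A
  have hu : ∀ l, co B e ν l (y - x) = if l ∈ A then -2 * co B e ν l x else 0 := fun l => by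
    rw [co_sub, hyc]; split_ifs <;> ring
  have hsupp : supp B e ν (y - x) = A := by
    ext l
    rw [mem_supp, hu]
    refine ⟨fun h => ?_, fun h => ?_⟩
    · by_contra hl; rw [if_neg hl] at h; exact h rfl
    · rw [if_pos h]; exact mul_ne_zero (neg_ne_zero.mpr X.two) (mem_supp.mp (hA h))
  have hQ : Q (y - x) = 0 := by
    rw [X.Q_co, ← X.sum_supp, hsupp]
    rw [Finset.sum_congr rfl (g := fun i => val B e ν i x) fun i hi => by
      rw [hu, if_pos hi, val]; ring, hsum, mul_zero]
  obtain ⟨h1, h2⟩ := hx.root T hy hQ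
  refine hΩ (T.omega_of_root (fun h => ?_) hQ h1 h2 (hsupp ▸ h4) (k := k) (hsupp ▸ hkA)
    (by rw [co_smul]; exact mul_ne_zero (inv_ne_zero X.nu) (mem_supp.mp hk)))
  obtain ⟨a, ha⟩ := hA0
  rw [← hsupp, mem_supp, h] at ha
  simp [co] at ha

open Classical in
/-- Zero sums from three values. -/
theorem Ctx.zero_mix {x : ι → F} (hx : Cls Q e ν H x) {r1 r2 r3 : F} (h12 : r1 ≠ r2)
    (h13 : r1 ≠ r3) (h23 : r2 ≠ r3) (t1 t2 t3 : ℕ)
    (h1 : t1 ≤ ((supp B e ν x).filter fun l => val B e ν l x = r1).card)
    (h2 : t2 ≤ ((supp B e ν x).filter fun l => val B e ν l x = r2).card)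
    (h3 : t3 ≤ ((supp B e ν x).filter fun l => val B e ν l x = r3).card)
    (hpos : 0 < t1 + t2 + t3) (hlt : t1 + t2 + t3 < (supp B e ν x).card)
    (h4 : t1 + t2 + t3 + 4 ≤ n) (hsum : (t1 : F) * r1 + t2 * r2 + t3 * r3 = 0) : False := by
  obtain ⟨A1, hA1, hc1⟩ := Finset.exists_subset_card_eq h1
  obtain ⟨A2, hA2, hc2⟩ := Finset.exists_subset_card_eq h2
  obtain ⟨A3, hA3, hc3⟩ := Finset.exists_subset_card_eq h3
  have m1 : ∀ l ∈ A1, l ∈ supp B e ν x ∧ val B e ν l x = r1 := fun l hl =>
    Finset.mem_filter.mp (hA1 hl)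
  have m2 : ∀ l ∈ A2, l ∈ supp B e ν x ∧ val B e ν l x = r2 := fun l hl =>
    Finset.mem_filter.mp (hA2 hl)
  have m3 : ∀ l ∈ A3, l ∈ supp B e ν x ∧ val B e ν l x = r3 := fun l hl =>
    Finset.mem_filter.mp (hA3 hl)
  have d12 : Disjoint A1 A2 := Finset.disjoint_left.mpr fun l a b =>
    h12 ((m1 l a).2.symm.trans (m2 l b).2)
  have d3 : Disjoint (A1 ∪ A2) A3 := Finset.disjoint_left.mpr fun l a b => by
    rcases Finset.mem_union.mp a with a | a
    · exact h13 ((m1 l a).2.symm.trans (m3 l b).2)
    · exact h23 ((m2 l a).2.symm.trans (m3 l b).2)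
  have hc : (A1 ∪ A2 ∪ A3).card = t1 + t2 + t3 := by
    rw [Finset.card_union_of_disjoint d3, Finset.card_union_of_disjoint d12, hc1, hc2, hc3]
  obtain ⟨k, hk, hkA⟩ := Finset.exists_mem_notMem_of_card_lt_card
    (show (A1 ∪ A2 ∪ A3).card < (supp B e ν x).card by rw [hc]; exact hlt)
  refine T.zero_sum hΩ hx (A1 ∪ A2 ∪ A3) (fun l hl => ?_) (Finset.card_pos.mp (hc ▸ hpos)) hk hkA
    (hc ▸ h4) ?_
  · rcases Finset.mem_union.mp hl with hl | hl
    · rcases Finset.mem_union.mp hl with hl | hl
      exacts [(m1 l hl).1, (m2 l hl).1]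
    · exact (m3 l hl).1
  · rw [Finset.sum_union d3, Finset.sum_union d12, Finset.sum_congr rfl fun l hl => (m1 l hl).2,
      Finset.sum_congr rfl fun l hl => (m2 l hl).2, Finset.sum_congr rfl fun l hl => (m3 l hl).2,
      Finset.sum_const, Finset.sum_const, Finset.sum_const, hc1, hc2, hc3, nsmul_eq_mul,
      nsmul_eq_mul, nsmul_eq_mul]
    exact hsum

set_option maxHeartbeats 1600000 in
open Classical in
/-- Small characteristic: the possible values. -/
theorem Ctx.small_char (hp7 : p ≤ 7) {x : ι → F} (hx : Cls Q e ν H x) :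
    (3 ≤ (supp B e ν x).card → p ≠ 3 ∧
      ∀ l ∈ supp B e ν x, val B e ν l x = 1 ∨ val B e ν l x = 2) ∧
    ((supp B e ν x).card = 2 → ∀ l ∈ supp B e ν x, val B e ν l x = 2) := by
  have X := T.frame
  have hn := X.big
  have hp2 : p ≠ 2 := fun h => X.two (by
    have := CharP.cast_eq_zero F p; rw [h] at this; exact_mod_cast this)
  set S := supp B e ν x with hS
  -- values as residues
  have hres : ∀ l ∈ S, ∃ r, r < p ∧ r ≠ 0 ∧ val B e ν l x = ((4 * r ^ 2 % p : ℕ) : F) := by
    intro l hl
    obtain ⟨m, hm⟩ := T.prime (co B e ν l x)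
    refine ⟨m % p, Nat.mod_lt _ (Fact.out : p.Prime).pos, fun h => mem_supp.mp hl ?_, ?_⟩
    · rw [hm, CharP.cast_eq_zero_iff F p]; exact Nat.dvd_of_mod_eq_zero h
    · rw [val, hm, ← CharP.cast_eq_mod F p, Nat.cast_mul, Nat.cast_pow, ← CharP.cast_eq_mod F p m]
      norm_num
  have hne : ∀ {a b : ℕ}, a < p → b < p → a ≠ b → (a : F) ≠ b := fun ha hb hab h =>
    hab (CharP.natCast_injOn_Iio F p ha hb h)
  set f : ℕ → Finset (Fin n) := fun r => S.filter fun l => val B e ν l x = (r : F) with hf
  have hcong : ∀ {R : Finset ℕ}, (∀ r ∈ R, r < p) → (∀ l ∈ S, ∃ r ∈ R, val B e ν l x = (r : F)) →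
      (∑ r ∈ R, (f r).card) = S.card ∧ (∑ r ∈ R, (f r).card * r) % p = 4 % p := by
    intro R hR hcov
    have hdisj : (R : Set ℕ).PairwiseDisjoint f := fun a ha b hb hab =>
      Finset.disjoint_left.mpr fun l hla hlb => hne (hR a ha) (hR b hb) hab
        ((Finset.mem_filter.mp hla).2.symm.trans (Finset.mem_filter.mp hlb).2)
    have hU : R.biUnion f = S := Finset.ext fun l => by
      rw [Finset.mem_biUnion]
      refine ⟨fun ⟨r, _, hl⟩ => (Finset.mem_filter.mp hl).1, fun hl => ?_⟩
      obtain ⟨r, hr, hv⟩ := hcov l hl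
      exact ⟨r, hr, Finset.mem_filter.mpr ⟨hl, hv⟩⟩
    refine ⟨by rw [← Finset.card_biUnion hdisj, hU], ?_⟩
    have h : ((∑ r ∈ R, (f r).card * r : ℕ) : F) = ((4 : ℕ) : F) := by
      rw [Nat.cast_sum, Nat.cast_ofNat, ← X.sum_val hx.1, ← hS]
      conv_rhs => rw [← hU, Finset.sum_biUnion hdisj]
      refine Finset.sum_congr rfl fun r _ => ?_
      rw [Finset.sum_congr rfl (g := fun _ => (r : F)) fun l hl => (Finset.mem_filter.mp hl).2,
        Finset.sum_const, nsmul_eq_mul, Nat.cast_mul]
    exact (CharP.natCast_eq_natCast F p).mp h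
  have zm : ∀ {r1 r2 r3 : ℕ} (t1 t2 t3 : ℕ), r1 < p → r2 < p → r3 < p → r1 ≠ r2 → r1 ≠ r3 →
      r2 ≠ r3 → (t1 * r1 + t2 * r2 + t3 * r3) % p = 0 → 0 < t1 + t2 + t3 →
      t1 + t2 + t3 ≤ 6 →
      ¬ (t1 ≤ (f r1).card ∧ t2 ≤ (f r2).card ∧ t3 ≤ (f r3).card ∧ t1 + t2 + t3 < S.card) := by
    intro r1 r2 r3 t1 t2 t3 a1 a2 a3 b1 b2 b3 hmod hpos h7 ⟨c1, c2, c3, c4⟩
    refine T.zero_mix hΩ hx (hne a1 a2 b1) (hne a1 a3 b2) (hne a2 a3 b3) t1 t2 t3 c1 c2 c3 hpos c4
      (by omega) ?_
    have h := (CharP.cast_eq_zero_iff F p _).mpr (Nat.dvd_of_mod_eq_zero hmod)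
    push_cast at h
    exact h
  obtain rfl | rfl | rfl : p = 3 ∨ p = 5 ∨ p = 7 := by
    have h := (Fact.out : p.Prime)
    have := h.two_le
    interval_cases p <;> first | omega | (exfalso; revert h; decide)
  · have hv : ∀ l ∈ S, val B e ν l x = ((1 : ℕ) : F) := fun l hl => by
      obtain ⟨r, hr, hr0, hv⟩ := hres l hl
      interval_cases r <;> simp_all
    obtain ⟨hc, hm⟩ := hcong (R := {1}) (by simp) (fun l hl => ⟨1, by simp, hv l hl⟩)
    simp only [Finset.sum_singleton, mul_one] at hc hm
    have h := zm (r1 := 1) (r2 := 0) (r3 := 2) 3 0 0 (by omega) (by omega) (by omega) (by omega)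
      (by omega) (by omega) (by norm_num) (by omega) (by omega)
    exact ⟨fun _ => absurd h (by push Not; exact ⟨by omega, by omega, by omega, by omega⟩),
      fun _ => by omega⟩
  · have hv : ∀ l ∈ S, ∃ r ∈ ({1, 4} : Finset ℕ), val B e ν l x = (r : F) := fun l hl => by
      obtain ⟨r, hr, hr0, hv⟩ := hres l hl
      interval_cases r <;>
        first | omega | exact ⟨1, by simp, by simpa using hv⟩ | exact ⟨4, by simp, by simpa using hv⟩
    obtain ⟨hc, hm⟩ := hcong (R := {1, 4}) (by simp) hv
    simp only [Finset.sum_pair (show (1 : ℕ) ≠ 4 by omega), mul_one] at hc hm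
    have z1 := zm (r1 := 1) (r2 := 4) (r3 := 0) 1 1 0 (by omega) (by omega) (by omega) (by omega)
      (by omega) (by omega) (by norm_num) (by omega) (by omega)
    have z2 := zm (r1 := 1) (r2 := 4) (r3 := 0) 0 5 0 (by omega) (by omega) (by omega) (by omega)
      (by omega) (by omega) (by norm_num) (by omega) (by omega)
    refine ⟨fun h3 => ⟨by omega, fun l hl => ?_⟩, fun h2 => by omega⟩
    have h0 : (f 4).card = 0 := by omega
    obtain ⟨r, hr, hv⟩ := hv l hl
    simp only [Finset.mem_insert, Finset.mem_singleton] at hr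
    rcases hr with rfl | rfl
    · exact Or.inl (by simpa using hv)
    · have hm4 : l ∈ f 4 := Finset.mem_filter.mpr ⟨hl, hv⟩
      rw [Finset.card_eq_zero.mp h0] at hm4
      exact absurd hm4 (Finset.notMem_empty l)
  · have hv : ∀ l ∈ S, ∃ r ∈ ({1, 2, 4} : Finset ℕ), val B e ν l x = (r : F) := fun l hl => by
      obtain ⟨r, hr, hr0, hv⟩ := hres l hl
      interval_cases r <;>
        first | omega | exact ⟨1, by simp, by simpa using hv⟩ |
          exact ⟨2, by simp, by simpa using hv⟩ | exact ⟨4, by simp, by simpa using hv⟩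
    obtain ⟨hc, hm⟩ := hcong (R := {1, 2, 4}) (by simp) hv
    rw [Finset.sum_insert (by simp), Finset.sum_pair (show (2 : ℕ) ≠ 4 by omega)] at hc hm
    have z : ∀ (a b c : ℕ), (a * 4 + b * 2 + c * 1) % 7 = 0 → 0 < a + b + c → a + b + c ≤ 6 →
        ¬ (a ≤ (f 4).card ∧ b ≤ (f 2).card ∧ c ≤ (f 1).card ∧ a + b + c < S.card) :=
      fun a b c => zm (r1 := 4) (r2 := 2) (r3 := 1) a b c (by omega) (by omega) (by omega)
        (by omega) (by omega) (by omega)
    have z1 := z 1 1 1 (by norm_num) (by omega) (by omega)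
    have z2 := z 3 1 0 (by norm_num) (by omega) (by omega)
    have z3 := z 2 3 0 (by norm_num) (by omega) (by omega)
    have z4 := z 1 5 0 (by norm_num) (by omega) (by omega)
    have z5 := z 1 0 3 (by norm_num) (by omega) (by omega)
    have z6 := z 3 0 2 (by norm_num) (by omega) (by omega)
    have z7 := z 5 0 1 (by norm_num) (by omega) (by omega)
    have z8 : ¬ ((f 4).card = 8 ∧ S.card = 8) := by
      rintro ⟨h8, hS8⟩
      have hall : ∀ l ∈ S, val B e ν l x = (4 : F) := fun l hl => by
        have hle : f 4 = S := Finset.eq_of_subset_of_card_le (Finset.filter_subset _ _) (by omega)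
        rw [← hle] at hl
        simpa using (Finset.mem_filter.mp hl).2
      obtain ⟨l₀, hl₀⟩ := Finset.card_pos.mp (show 0 < S.card by omega)
      obtain ⟨y, hy, hyv⟩ := T.refl_flip hx {l₀}
      have h7 : (7 : F) = 0 := by exact_mod_cast CharP.cast_eq_zero F 7
      simp only [Finset.sum_singleton, Finset.mem_singleton, hall l₀ hl₀] at hyv
      have v4 : val B e ν l₀ y = (4 : F) := by
        rw [hyv, if_pos rfl, hall l₀ hl₀]; ring
      have v1 : ∀ l ∈ S.erase l₀, val B e ν l y = (1 : F) := fun l hl => by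
        obtain ⟨hne', hlS⟩ := Finset.mem_erase.mp hl
        rw [hyv, if_neg hne', hall l hlS]
        linear_combination 5 * h7
      have h14 : (1 : F) ≠ 4 := by exact_mod_cast hne (a := 1) (b := 4) (by omega) (by omega) (by omega)
      have h12 : (1 : F) ≠ 2 := by exact_mod_cast hne (a := 1) (b := 2) (by omega) (by omega) (by omega)
      have h24 : (2 : F) ≠ 4 := by exact_mod_cast hne (a := 2) (b := 4) (by omega) (by omega) (by omega)
      have hs4 : l₀ ∈ supp B e ν y := (supp_val X.four).mpr (by rw [v4]; exact X.four)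
      have hs1 : ∀ l ∈ S.erase l₀, l ∈ supp B e ν y := fun l hl =>
        (supp_val X.four).mpr (by rw [v1 l hl]; exact one_ne_zero)
      have c1 : S.erase l₀ ⊆ (supp B e ν y).filter fun l => val B e ν l y = (1 : F) :=
        fun l hl => Finset.mem_filter.mpr ⟨hs1 l hl, v1 l hl⟩
      have c2 : insert l₀ (S.erase l₀) ⊆ supp B e ν y := Finset.insert_subset hs4 hs1
      have e1 := Finset.card_erase_of_mem hl₀
      refine T.zero_mix hΩ hy (r1 := (4 : F)) (r2 := 2) (r3 := 1) (Ne.symm h24) (Ne.symm h14)
        (Ne.symm h12) 1 0 3 (Finset.card_pos.mpr ⟨l₀, Finset.mem_filter.mpr ⟨hs4, v4⟩⟩)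
        (Nat.zero_le _) ?_ (by omega) ?_ (by omega) ?_
      · have := Finset.card_le_card c1
        omega
      · have := Finset.card_le_card c2
        rw [Finset.insert_erase hl₀] at this
        omega
      · push_cast
        linear_combination h7
    have z9 : 11 ≤ n → ¬ (7 ≤ (f 4).card ∧ 7 < S.card) := fun h11 ⟨c1, c4⟩ =>
      T.zero_mix hΩ hx (hne (a := 4) (b := 2) (by omega) (by omega) (by omega))
        (hne (a := 4) (b := 1) (by omega) (by omega) (by omega))
        (hne (a := 2) (b := 1) (by omega) (by omega) (by omega)) 7 0 0 c1 (Nat.zero_le _)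
        (Nat.zero_le _) (by omega) (by omega) (by omega) (by
          push_cast
          have h7 : (7 : F) = 0 := by exact_mod_cast CharP.cast_eq_zero F 7
          linear_combination (4 : F) * h7)
    have hSn : S.card ≤ n := (Finset.card_le_univ S).trans (Fintype.card_fin n).le
    have h2' : S.card = 2 → (f 4).card = 0 ∧ (f 1).card = 0 := by
      intro h
      generalize ha : (f 4).card = a at *
      generalize hb : (f 2).card = b at *
      generalize hc1 : (f 1).card = c at *
      have : a ≤ 2 ∧ b ≤ 2 := by omega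
      obtain ⟨_, _⟩ := this
      interval_cases a <;> interval_cases b <;> omega
    have h3' : 3 ≤ S.card → (f 4).card = 0 := by
      intro h
      generalize ha : (f 4).card = a at *
      generalize hb : (f 2).card = b at *
      generalize hc1 : (f 1).card = c at *
      rcases le_or_gt 8 a with h8 | h8
      · omega
      rcases le_or_gt 8 b with hb8 | hb8
      · interval_cases a <;> omega
      interval_cases a <;> interval_cases b <;> omega
    have key : ∀ l ∈ S, ∀ r : ℕ, (f r).card = 0 → val B e ν l x ≠ (r : F) := fun l hl r h0 hv =>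
      by
        have hm' : l ∈ f r := Finset.mem_filter.mpr ⟨hl, hv⟩
        rw [Finset.card_eq_zero.mp h0] at hm'
        exact Finset.notMem_empty l hm'
    refine ⟨fun h3 => ⟨by omega, fun l hl => ?_⟩, fun h2 l hl => ?_⟩ <;>
      obtain ⟨r, hr, hv⟩ := hv l hl <;>
      simp only [Finset.mem_insert, Finset.mem_singleton] at hr <;>
      rcases hr with rfl | rfl | rfl
    · exact Or.inl (by simpa using hv)
    · exact Or.inr (by simpa using hv)
    · exact absurd hv (key l hl _ (h3' h3))
    · exact absurd hv (key l hl _ (h2' h2).2)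
    · simpa using hv
    · exact absurd hv (key l hl _ (h2' h2).1)

/-- Few coordinates: the values are `1` or `2`. -/
theorem Ctx.v12_small (hp : 11 ≤ p) {x : ι → F} (hx : Cls Q e ν H x)
    (h3 : 3 ≤ (supp B e ν x).card) (h4 : (supp B e ν x).card + 4 ≤ n) {i : Fin n}
    (hi : i ∈ supp B e ν x) : val B e ν i x = 1 ∨ val B e ν i x = 2 := by
  classical
  have X := T.frame
  set S := supp B e ν x with hS
  obtain ⟨j, hj⟩ := exists_outside (S := S) (by omega)
  obtain ⟨k, hk⟩ := exists_outside (S := insert j S) (by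
    have := Finset.card_insert_le j S; omega)
  obtain ⟨l, hl⟩ := exists_outside (S := insert k (insert j S)) (by
    have := Finset.card_insert_le j S
    have := Finset.card_insert_le k (insert j S)
    omega)
  simp only [Finset.mem_insert, not_or] at hk hl
  have hv0 : ∀ q, q ∉ S → val B e ν q x = 0 := fun q hq => by
    rw [val, not_mem_supp.mp hq]; ring
  have hij : i ≠ j := fun h => hj (h ▸ hi)
  set R := S.erase i with hR
  have hRc : R.card + 1 = S.card := Finset.card_erase_add_one hi
  have hD : val B e ν i x + val B e ν j x ≠ 4 := by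
    intro h
    rw [hv0 j hj, add_zero, ← X.sum_val hx.1, ← Finset.add_sum_erase _ _ hi] at h
    exact T.zero_sum hΩ hx R (Finset.erase_subset _ _) (Finset.card_pos.mp (by omega)) hi
      (Finset.notMem_erase i S) (by omega) (by linear_combination -h)
  rcases T.gamma_four hΩ p hp hx hij (Ne.symm hl.1) (fun h => hk.2 (h ▸ hi))
    (fun h => hl.2.2 (h ▸ hi)) (Ne.symm hk.1) (Ne.symm hl.2.1)
    (by rw [hv0 k hk.2, hv0 l hl.2.2]) hD (mem_supp.mp hi) with hF | h
  swap; · exact h
  exfalso
  obtain ⟨k0, hk0, q, hq, hqk⟩ := Finset.one_lt_card.mp (show 1 < R.card by omega)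
  have hRS : ∀ {q}, q ∈ R → q ≠ i ∧ q ≠ j ∧ co B e ν q x ≠ 0 := fun hq => by
    obtain ⟨h1, h2⟩ := Finset.mem_erase.mp hq
    exact ⟨h1, fun h => hj (h ▸ h2), mem_supp.mp h2⟩
  obtain ⟨hki, hkj, hck⟩ := hRS hk0
  set c := co B e ν k0 x with hc
  obtain ⟨α, β, hαβ⟩ := exists_conic X.two (one_ne_zero) (one_ne_zero)
    (1 - ∑ q ∈ R, (c⁻¹ * co B e ν q x) ^ 2)
  set y := α • e i + β • e j + c⁻¹ • rest B e ν i j x with hy
  have hyc : ∀ q, co B e ν q y = if q = i then α else if q = j then β else c⁻¹ * co B e ν q x :=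
    fun q => X.co_comb hij α β c⁻¹ q
  have hsub : supp B e ν y ⊆ insert i (insert j R) := fun q hq => by
    rw [mem_supp, hyc] at hq
    simp only [Finset.mem_insert]
    by_cases h1 : q = i
    · exact Or.inl h1
    by_cases h2 : q = j
    · exact Or.inr (Or.inl h2)
    rw [if_neg h1, if_neg h2] at hq
    exact Or.inr (Or.inr (Finset.mem_erase.mpr ⟨h1, mem_supp.mpr (right_ne_zero_of_mul hq)⟩))
  have hQy : Q y = ν := by
    rw [X.Q_co, ← X.sum_supp, Finset.sum_subset hsub fun q _ hq => by
      rw [not_mem_supp.mp hq]; ring]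
    rw [Finset.sum_insert (by simp [hij, hR]), Finset.sum_insert (fun h => (hRS h).2.1 rfl),
      hyc, hyc, if_pos rfl, if_neg hij.symm, if_pos rfl,
      Finset.sum_congr rfl fun q hq => by rw [hyc, if_neg (hRS hq).1, if_neg (hRS hq).2.1]]
    linear_combination ν * hαβ
  have hy' := hF y (tspan_mem α β c⁻¹) hQy
  have hk0y : k0 ∈ supp B e ν y := by
    rw [mem_supp, hyc, if_neg hki, if_neg hkj, ← hc, inv_mul_cancel₀ hck]; exact one_ne_zero
  refine T.zero_sum hΩ hy' ((supp B e ν y).erase k0) (Finset.erase_subset _ _) ⟨q, ?_⟩ hk0y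
    (Finset.notMem_erase _ _) ?_ ?_
  · obtain ⟨h1, h2, h3⟩ := hRS hq
    rw [Finset.mem_erase, mem_supp, hyc, if_neg h1, if_neg h2]
    exact ⟨hqk.symm, mul_ne_zero (inv_ne_zero hck) h3⟩
  · have := Finset.card_le_card hsub
    have := Finset.card_insert_le i (insert j R)
    have := Finset.card_insert_le j R
    have := Finset.card_erase_add_one hk0y
    omega
  · have h := X.sum_val hQy
    rw [← Finset.add_sum_erase _ _ hk0y, val, hyc, if_neg hki, if_neg hkj, ← hc,
      inv_mul_cancel₀ hck] at h
    linear_combination h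

/-- Two coordinates. -/
theorem Ctx.two_std (hp : 11 ≤ p) {x : ι → F} (hx : Cls Q e ν H x)
    (h2 : (supp B e ν x).card = 2) {i : Fin n} (hi : i ∈ supp B e ν x) :
    val B e ν i x = 2 := by
  classical
  have X := T.frame
  have hn := X.big
  have nd : ∀ {m : ℕ}, 0 < m → m < 11 → ¬ p ∣ m := fun hm hm' h => by
    have := Nat.le_of_dvd hm h; omega
  obtain ⟨a, b, hab, hS⟩ := Finset.card_eq_two.mp h2
  have key : ∀ {i l : Fin n}, i ≠ l → supp B e ν x = {i, l} →
      val B e ν i x = 1 ∨ val B e ν i x = 2 := by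
    intro i l hil hS
    have hcl : co B e ν l x ≠ 0 := mem_supp.mp (by rw [hS]; simp)
    have hci : co B e ν i x ≠ 0 := mem_supp.mp (by rw [hS]; simp)
    obtain ⟨j, hj⟩ := exists_outside (S := ({i, l} : Finset (Fin n))) (by
      have := Finset.card_le_two (a := i) (b := l); omega)
    obtain ⟨k, hk⟩ := exists_outside (S := ({i, l, j} : Finset (Fin n))) (by
      have := Finset.card_le_three (a := i) (b := l) (c := j); omega)
    obtain ⟨m, hm⟩ := exists_outside (S := ({i, l, j, k} : Finset (Fin n))) (by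
      have := Finset.card_le_four (a := i) (b := l) (c := j) (d := k); omega)
    simp only [Finset.mem_insert, Finset.mem_singleton, not_or] at hj hk hm
    have hv0 : ∀ q, q ≠ i → q ≠ l → val B e ν q x = 0 := fun q h1 h2 => by
      rw [val, not_mem_supp.mp (by rw [hS]; simp [h1, h2])]; ring
    have hsum : val B e ν i x + val B e ν l x = 4 := by
      rw [← X.sum_val hx.1, hS, Finset.sum_pair hil]
    have hD : val B e ν i x + val B e ν j x ≠ 4 := by
      intro h
      rw [hv0 j hj.1 hj.2, add_zero] at h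
      rw [h, add_eq_left, val] at hsum
      exact mul_ne_zero X.four (pow_ne_zero 2 hcl) hsum
    rcases T.gamma_four hΩ p hp hx (Ne.symm hj.1) (Ne.symm hm.2.2.2) (Ne.symm hk.1) (Ne.symm hm.1)
      (Ne.symm hk.2.2) (Ne.symm hm.2.2.1) (by rw [hv0 k hk.1 hk.2.1, hv0 m hm.1 hm.2.1]) hD hci
      with hF | h
    swap; · exact h
    exfalso
    have h3 : (3 : F) ≠ 0 := num_ne p 3 (nd (by omega) (by omega))
    set y := (1 / 3 : F) • e i + (2 / 3 : F) • e j +
      (2 / 3 / co B e ν l x) • rest B e ν i j x with hy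
    have hyc : ∀ q, co B e ν q y = if q = i then 1 / 3 else if q = j then 2 / 3
        else 2 / 3 / co B e ν l x * co B e ν q x := fun q => X.co_comb (Ne.symm hj.1) _ _ _ q
    have hsupp : supp B e ν y = {i, j, l} := by
      ext q
      rw [mem_supp, hyc]
      simp only [Finset.mem_insert, Finset.mem_singleton]
      by_cases h1 : q = i
      · simp [h1, h3]
      by_cases h2 : q = j
      · simp [h2, hj.1, h3, X.two]
      by_cases h5 : q = l
      · simp [h5, Ne.symm hil, Ne.symm hj.2, h3, X.two, hcl]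
      simp [h1, h2, h5, not_mem_supp.mp (show q ∉ supp B e ν x by rw [hS]; simp [h1, h5])]
    have hQy : Q y = ν := by
      rw [X.Q_co, ← X.sum_supp, hsupp, Finset.sum_insert (by simp [Ne.symm hj.1, hil]),
        Finset.sum_pair hj.2, hyc, hyc, hyc, if_pos rfl, if_neg hj.1, if_pos rfl,
        if_neg (Ne.symm hil), if_neg (Ne.symm hj.2)]
      field_simp
      ring
    have h3c : (supp B e ν y).card = 3 := by
      rw [hsupp, Finset.card_insert_of_notMem (by simp [Ne.symm hj.1, hil]),
        Finset.card_pair hj.2]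
    have h := T.v12_small hΩ p hp (hF y (tspan_mem _ _ _) hQy) h3c.ge (by omega) (i := i)
      (by rw [hsupp]; simp)
    rw [val, hyc, if_pos rfl] at h
    field_simp at h
    rcases h with h | h
    · exact num_ne (F := F) p 5 (nd (by omega) (by omega)) (by linear_combination -h)
    · refine mul_ne_zero X.two (num_ne (F := F) p 7 (nd (by omega) (by omega))) ?_
      linear_combination -h
  have hsum : val B e ν a x + val B e ν b x = 4 := by
    rw [← X.sum_val hx.1, hS, Finset.sum_pair hab]
  have h3 : (3 : F) ≠ 0 := num_ne p 3 (nd (by omega) (by omega))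
  have : val B e ν a x = 2 ∧ val B e ν b x = 2 := by
    rcases key hab hS with h | h <;> rcases key hab.symm (by rw [hS, Finset.pair_comm]) with h' | h'
    · exact absurd (by rw [h, h'] at hsum; linear_combination -hsum) X.two
    · exact absurd (by rw [h, h'] at hsum; linear_combination -hsum) (one_ne_zero (α := F))
    · exact absurd (by rw [h, h'] at hsum; linear_combination -hsum) (one_ne_zero (α := F))
    · exact ⟨h, h'⟩
  rw [hS, Finset.mem_insert, Finset.mem_singleton] at hi
  rcases hi with rfl | rfl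
  exacts [this.1, this.2]

theorem Ctx.no_full (hp : 11 ≤ p) {x : ι → F} {i j : Fin n} (hij : i ≠ j)
    (hF : Full Q B e ν H i j x) : False := by
  classical
  have X := T.frame
  have nd : ∀ {m : ℕ}, 0 < m → m < 11 → ¬ p ∣ m := fun hm hm' h => by
    have := Nat.le_of_dvd hm h; omega
  have h3 : (3 : F) ≠ 0 := num_ne p 3 (nd (by omega) (by omega))
  have h5 : (5 : F) ≠ 0 := num_ne p 5 (nd (by omega) (by omega))
  set y := (3 / 5 : F) • e i + (4 / 5 : F) • e j + (0 : F) • rest B e ν i j x with hy
  have hyc : ∀ q, co B e ν q y = if q = i then 3 / 5 else if q = j then 4 / 5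
      else 0 * co B e ν q x := fun q => X.co_comb hij _ _ _ q
  have hsupp : supp B e ν y = {i, j} := by
    ext q
    rw [mem_supp, hyc]
    simp only [Finset.mem_insert, Finset.mem_singleton]
    by_cases h1 : q = i
    · simp [h1, h3, h5]
    by_cases h2 : q = j
    · simp [h2, hij.symm, h5, X.four]
    simp [h1, h2]
  have hQy : Q y = ν := by
    rw [X.Q_co, ← X.sum_supp, hsupp, Finset.sum_pair hij, hyc, hyc, if_pos rfl,
      if_neg hij.symm, if_pos rfl]
    field_simp
    ring
  have h := T.two_std hΩ p hp (hF y (tspan_mem _ _ _) hQy)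
    (by rw [hsupp]; exact Finset.card_pair hij) (i := i) (by rw [hsupp]; simp)
  rw [val, hyc, if_pos rfl] at h
  field_simp at h
  refine mul_ne_zero X.two (num_ne (F := F) p 7 (nd (by omega) (by omega))) ?_
  linear_combination -h

/-- Coordinates with a partner. -/
theorem Ctx.v12_pair (hp : 11 ≤ p) {x : ι → F} (hx : Cls Q e ν H x)
    (h3 : 3 ≤ (supp B e ν x).card) {i j : Fin n} (hij : i ≠ j) (hi : i ∈ supp B e ν x)
    (hj : j ∈ supp B e ν x) (hD : val B e ν i x + val B e ν j x ≠ 4) :
    val B e ν i x = 1 ∨ val B e ν i x = 2 := by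
  classical
  have X := T.frame
  have hn := X.big
  by_cases h4 : (supp B e ν x).card + 4 ≤ n
  · exact T.v12_small hΩ p hp hx h3 h4 hi
  set S := supp B e ν x with hS
  set R := (S.erase i).erase j with hR
  obtain ⟨k, hk, l, hl, hkl, heq⟩ : ∃ k ∈ R, ∃ l ∈ R, k ≠ l ∧ val B e ν k x = val B e ν l x := by
    by_contra hc
    push Not at hc
    have hRc : 5 ≤ R.card := by
      have h1 := Finset.card_erase_add_one hi
      have h2 := Finset.card_erase_add_one (Finset.mem_erase.mpr ⟨hij.symm, hj⟩)
      rw [← hR] at h2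
      omega
    obtain ⟨r, hr⟩ : ∃ r : F, ∀ v : F, v ^ 2 - 3 * v + 1 = 0 → v = r ∨ v = 3 - r := by
      by_cases hex : ∃ r : F, r ^ 2 - 3 * r + 1 = 0
      · obtain ⟨r, hr⟩ := hex
        refine ⟨r, fun v hv => ?_⟩
        have : (v - r) * (v - (3 - r)) = 0 := by linear_combination hv - hr
        exact (mul_eq_zero.mp this).imp sub_eq_zero.mp sub_eq_zero.mp
      · exact ⟨0, fun v hv => absurd ⟨v, hv⟩ hex⟩
    have hall : ∀ a ∈ R, val B e ν a x ∈ ({1, 2, r, 3 - r} : Finset F) := by
      intro a ha
      have haS : a ∈ S := Finset.mem_of_mem_erase (Finset.mem_of_mem_erase ha)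
      obtain ⟨b, hb, hab, hD'⟩ : ∃ b ∈ S, a ≠ b ∧ val B e ν a x + val B e ν b x ≠ 4 := by
        by_contra hc'
        push Not at hc'
        obtain ⟨b, hb, c, hc2, hbc⟩ := Finset.one_lt_card.mp (show 1 < (R.erase a).card by
          have := Finset.card_erase_add_one ha; omega)
        rw [Finset.mem_erase] at hb hc2
        have hS' : ∀ {q}, q ∈ R → q ∈ S := fun h =>
          Finset.mem_of_mem_erase (Finset.mem_of_mem_erase h)
        exact hc b hb.2 c hc2.2 hbc (by
          linear_combination hc' b (hS' hb.2) hb.1.symm - hc' c (hS' hc2.2) hc2.1.symm)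
      simp only [Finset.mem_insert, Finset.mem_singleton]
      rcases T.gamma_one hΩ p hp hx hab hD' (mem_supp.mp haS) (mem_supp.mp hb)
        with hF | h | h | h
      · exact (T.no_full hΩ p hp hab hF).elim
      · exact Or.inl h
      · exact Or.inr (Or.inl h)
      · exact Or.inr (Or.inr (hr _ h))
    have h := Finset.card_le_card_of_injOn (fun a => val B e ν a x) hall
      (fun a ha b hb h => by_contra fun hab => hc a ha b hb hab h)
    have := h.trans Finset.card_le_four
    omega
  simp only [hR, Finset.mem_erase] at hk hl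
  rcases T.gamma_four hΩ p hp hx hij hkl (Ne.symm hk.2.1) (Ne.symm hl.2.1) (Ne.symm hk.1)
    (Ne.symm hl.1) heq hD (mem_supp.mp hi) with hF | h
  · exact (T.no_full hΩ p hp hij hF).elim
  · exact h

/-- The values are `1` or `2`. -/
theorem Ctx.v12 {x : ι → F} (hx : Cls Q e ν H x) (h3 : 3 ≤ (supp B e ν x).card) :
    5 ≤ p ∧ ∀ i ∈ supp B e ν x, val B e ν i x = 1 ∨ val B e ν i x = 2 := by
  classical
  have X := T.frame
  have hp2 : p ≠ 2 := fun h => X.two (by
    have := CharP.cast_eq_zero F p; rw [h] at this; exact_mod_cast this)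
  by_cases hp7 : p ≤ 7
  · obtain ⟨hne, hv⟩ := (T.small_char hΩ p hp7 hx).1 h3
    refine ⟨?_, hv⟩
    have h := (Fact.out : p.Prime)
    have := h.two_le
    by_contra hc
    interval_cases p <;> first | omega | (revert h; decide)
  have hp : 11 ≤ p := by
    have h := (Fact.out : p.Prime)
    by_contra hc
    interval_cases p <;> first | omega | (revert h; decide)
  refine ⟨by omega, fun i hi => ?_⟩
  by_cases hex : ∃ j ∈ supp B e ν x, i ≠ j ∧ val B e ν i x + val B e ν j x ≠ 4
  · obtain ⟨j, hj, hij, hD⟩ := hex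
    exact T.v12_pair hΩ p hp hx h3 hij hi hj hD
  push Not at hex
  obtain ⟨j, hj, l, hl, hjl⟩ := Finset.one_lt_card.mp (show 1 < ((supp B e ν x).erase i).card by
    have := Finset.card_erase_add_one hi; omega)
  simp only [Finset.mem_erase] at hj hl
  set w := val B e ν j x with hw
  have e1 := hex j hj.2 (Ne.symm hj.1)
  have e2 := hex l hl.2 (Ne.symm hl.1)
  rw [← hw] at e1
  by_cases hw2 : w = 2
  · exact Or.inr (by linear_combination e1 - hw2)
  have hD : val B e ν j x + val B e ν l x ≠ 4 := fun h => hw2 (by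
    refine mul_left_cancel₀ X.two ?_
    rw [← hw] at h
    linear_combination h + e1 - e2)
  have hw1 : w = 1 := (T.v12_pair hΩ p hp hx h3 hjl hj.2 hl.2 hD).resolve_right hw2
  exfalso
  obtain ⟨z, hz, hzv⟩ := T.refl_flip hx {i}
  have hvi : val B e ν i x = 3 := by linear_combination e1 - hw1
  simp only [Finset.sum_singleton, hvi, Finset.mem_singleton] at hzv
  have hzj : ∀ q ∈ supp B e ν x, q ≠ i → val B e ν q z = 4 := fun q hq hqi => by
    rw [hzv, if_neg hqi]
    linear_combination 4 * (hex q hq (Ne.symm hqi)) - 4 * hvi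
  have hzs : ∀ q ∈ supp B e ν x, q ≠ i → q ∈ supp B e ν z := fun q hq hqi =>
    (supp_val X.four).mpr (hzj q hq hqi ▸ X.four)
  have h3' : 3 ≤ (supp B e ν z).card := by
    by_contra hlt
    have hle := Finset.card_le_card (s := (supp B e ν x).erase i) (fun q hq => by
      rw [Finset.mem_erase] at hq; exact hzs q hq.2 hq.1)
    have hc : (supp B e ν z).card = 2 := by
      have := Finset.card_erase_add_one hi; omega
    have := T.two_std hΩ p hp hz hc (hzs j hj.2 hj.1)
    rw [hzj j hj.2 hj.1] at this
    exact X.two (by linear_combination this)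
  have h := T.v12_pair hΩ p hp hz h3' hjl (hzs j hj.2 hj.1) (hzs l hl.2 hl.1) (fun h => by
    rw [hzj j hj.2 hj.1, hzj l hl.2 hl.1] at h
    exact X.four (by linear_combination h))
  rw [hzj j hj.2 hj.1] at h
  rcases h with h | h
  · exact num_ne (F := F) p 3 (fun h => by have := Nat.le_of_dvd (by omega) h; omega)
      (by linear_combination h)
  · exact X.two (by linear_combination h)

include p in
/-- A value `2` and a value `1` in a support of at least five. -/
theorem Ctx.mixed {x : ι → F} (hx : Cls Q e ν H x) (h5 : 5 ≤ (supp B e ν x).card) {i j : Fin n}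
    (hi : i ∈ supp B e ν x) (hj : j ∈ supp B e ν x) (hvi : val B e ν i x = 2)
    (hvj : val B e ν j x = 1) : False := by
  classical
  have X := T.frame
  obtain ⟨hp5, hv⟩ := T.v12 hΩ p hx (by omega)
  have h3 : (3 : F) ≠ 0 := num_ne p 3 (fun h => by have := Nat.le_of_dvd (by omega) h; omega)
  have hij : i ≠ j := fun h => one_ne_zero (α := F) (by
    rw [h, hvj] at hvi; linear_combination -hvi)
  obtain ⟨z, hz, hzv⟩ := T.refl_flip hx {i, j}
  rw [Finset.sum_pair hij, hvi, hvj] at hzv
  set R := ((supp B e ν x).erase i).erase j with hR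
  have hRc : R.card + 2 = (supp B e ν x).card := by
    have h1 := Finset.card_erase_add_one hi
    have h2 := Finset.card_erase_add_one (Finset.mem_erase.mpr ⟨hij.symm, hj⟩)
    rw [← hR] at h2
    omega
  have hzR : ∀ q ∈ R, val B e ν q z = 4 * val B e ν q x ∧ q ∈ supp B e ν z := fun q hq => by
    simp only [hR, Finset.mem_erase] at hq
    have e : val B e ν q z = 4 * val B e ν q x := by
      rw [hzv, if_neg (by simp [hq.1, hq.2.1])]; ring
    exact ⟨e, (supp_val X.four).mpr (e ▸ mul_ne_zero X.four ((supp_val X.four).mp hq.2.2))⟩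
  obtain ⟨-, hvz⟩ := T.v12 hΩ p hz (by
    have := Finset.card_le_card (s := R) fun q hq => (hzR q hq).2
    omega)
  have hall : ∀ q ∈ R, val B e ν q x = 2 ∧ (7 : F) = 0 := fun q hq => by
    have hqS : q ∈ supp B e ν x := Finset.mem_of_mem_erase (Finset.mem_of_mem_erase hq)
    obtain ⟨e, hqz⟩ := hzR q hq
    rcases hv q hqS with h | h <;> rcases hvz q hqz with h' | h' <;> rw [e, h] at h'
    · exact absurd (by linear_combination h') h3
    · exact absurd (by linear_combination h') X.two
    · exact ⟨h, by linear_combination h'⟩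
    · exact absurd (by linear_combination h' : (2 : F) * 3 = 0) (mul_ne_zero X.two h3)
  obtain ⟨A, hA, hAc⟩ := Finset.exists_subset_card_eq (show 3 ≤ R.card by omega)
  have hjA : j ∉ A := fun h => Finset.notMem_erase j _ (hA h)
  refine T.zero_sum hΩ hx (insert j A) (Finset.insert_subset hj fun q hq =>
    Finset.mem_of_mem_erase (Finset.mem_of_mem_erase (hA hq))) (Finset.insert_nonempty _ _) hi
    (fun h => ?_) ?_ ?_
  · rcases Finset.mem_insert.mp h with h | h
    · exact hij h
    · exact Finset.notMem_erase i _ (Finset.mem_of_mem_erase (hA h))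
  · rw [Finset.card_insert_of_notMem hjA]; have := X.big; omega
  · rw [Finset.sum_insert hjA, hvj, Finset.sum_congr rfl fun q hq => (hall q (hA hq)).1,
      Finset.sum_const, hAc, nsmul_eq_mul]
    obtain ⟨q, hq⟩ := Finset.card_pos.mp (show 0 < R.card by omega)
    push_cast
    linear_combination (hall q hq).2

include p in
/-- At most two coordinates. -/
theorem Ctx.no_three {x : ι → F} (hx : Cls Q e ν H x) (h3 : 3 ≤ (supp B e ν x).card) : False := by
  classical
  have X := T.frame
  have hn := X.big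
  obtain ⟨hp5, hv⟩ := T.v12 hΩ p hx h3
  have h3' : (3 : F) ≠ 0 := num_ne p 3 (fun h => by have := Nat.le_of_dvd (by omega) h; omega)
  have hsum := X.sum_val hx.1
  set S := supp B e ν x with hS
  have h1 : ((1 : F)) ≠ 0 := one_ne_zero
  by_cases h2x : ∀ i ∈ S, val B e ν i x = 1
  · -- all ones
    rw [Finset.sum_congr rfl h2x, Finset.sum_const, nsmul_eq_mul, mul_one] at hsum
    rcases (show S.card = 3 ∨ S.card = 4 ∨ S.card = 5 ∨ 6 ≤ S.card by omega) with hc | hc | hc | hc
    · rw [hc] at hsum; push_cast at hsum; exact h1 (by linear_combination -hsum)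
    · obtain ⟨a, ha⟩ := Finset.card_pos.mp (show 0 < S.card by omega)
      obtain ⟨b, c, d, hbc, hbd, hcd, hR⟩ := Finset.card_eq_three.mp
        (show (S.erase a).card = 3 by have := Finset.card_erase_add_one ha; omega)
      have mem : b ∈ S.erase a ∧ c ∈ S.erase a ∧ d ∈ S.erase a := by rw [hR]; simp
      simp only [Finset.mem_erase] at mem
      obtain ⟨⟨hba, hb⟩, ⟨hca, hc'⟩, ⟨hda, hd⟩⟩ := mem
      obtain ⟨Z, hZ, hZc⟩ := Finset.exists_subset_card_eq (s := Finset.univ \ S) (n := 5) (by
        rw [Finset.card_sdiff_of_subset (Finset.subset_univ _), Finset.card_univ, Fintype.card_fin]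
        omega)
      obtain ⟨m, hm⟩ := Finset.card_pos.mp (show 0 < Z.card by omega)
      obtain ⟨o, ho⟩ := Finset.card_pos.mp (show 0 < (Z.erase m).card by
        have := Finset.card_erase_add_one hm; omega)
      obtain ⟨q, z1, z2, hqz1, hqz2, hz12, hZ'⟩ := Finset.card_eq_three.mp
        (show ((Z.erase m).erase o).card = 3 by
          have := Finset.card_erase_add_one hm
          have := Finset.card_erase_add_one ho
          omega)
      have mem2 : q ∈ (Z.erase m).erase o ∧ z1 ∈ (Z.erase m).erase o ∧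
          z2 ∈ (Z.erase m).erase o := by rw [hZ']; simp
      simp only [Finset.mem_erase] at mem2 ho
      obtain ⟨⟨hqo, hqm, hq⟩, ⟨hz1o, hz1m, hz1⟩, ⟨hz2o, hz2m, hz2⟩⟩ := mem2
      have out : ∀ {r}, r ∈ Z → co B e ν r x = 0 ∧ r ∉ S := fun hr =>
        ⟨not_mem_supp.mp (Finset.mem_sdiff.mp (hZ hr)).2, (Finset.mem_sdiff.mp (hZ hr)).2⟩
      have sne : ∀ {s r}, s ∈ S → r ∈ Z → s ≠ r := fun hs hr h => (out hr).2 (h ▸ hs)
      obtain ⟨x1, hx1, hc1⟩ := T.swap hx (a := b) (b := m) (c := c) (d := o) (sne hb hm)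
        (sne hc' ho.2) hbc (sne hb ho.2) (sne hc' hm).symm (Ne.symm ho.1)
      obtain ⟨x2, hx2, hc2⟩ := T.swap hx1 (a := d) (b := q) (c := z1) (d := z2) (sne hd hq)
        hz12 (sne hd hz1) (sne hd hz2) hqz1 hqz2
      have hy := hx.refl T hx2
      have vz : ∀ r, val B e ν r ((rGL Q x).val *ᵥ x2) =
          4 * (co B e ν r x2 - co B e ν r x / 2) ^ 2 := by
        intro r
        have hB : ∑ i, co B e ν i x * co B e ν i x2 = 1 / 4 := by
          rw [Finset.sum_eq_single a]
          · rw [hc2, if_neg (sne ha hq |> fun _ => hda.symm), if_neg (sne ha hq),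
              if_neg (sne ha hz1), if_neg (sne ha hz2), hc1, if_neg hba.symm, if_neg (sne ha hm),
              if_neg hca.symm, if_neg (sne ha ho.2)]
            have h := h2x a ha
            rw [val] at h
            have := X.four
            field_simp
            linear_combination h
          · intro r _ hra
            by_cases hrS : r ∈ S
            · have : r ∈ S.erase a := Finset.mem_erase.mpr ⟨hra, hrS⟩
              rw [hR] at this
              simp only [Finset.mem_insert, Finset.mem_singleton] at this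
              rcases this with rfl | rfl | rfl
              · rw [hc2, if_neg hbd, if_neg (sne hb hq), if_neg (sne hb hz1), if_neg (sne hb hz2),
                  hc1, if_pos rfl, (out hm).1, mul_zero]
              · rw [hc2, if_neg hcd, if_neg (sne hc' hq), if_neg (sne hc' hz1),
                  if_neg (sne hc' hz2), hc1, if_neg hbc.symm, if_neg (sne hc' hm), if_pos rfl,
                  (out ho.2).1, mul_zero]
              · rw [hc2, if_pos rfl, hc1, if_neg (sne hb hq).symm, if_neg hqm,
                  if_neg (sne hc' hq).symm, if_neg hqo, (out hq).1, mul_zero]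
            · rw [not_mem_supp.mp hrS, zero_mul]
          · exact fun h => absurd (Finset.mem_univ a) h
        rw [val, rGL_act X.space (hx.1 ▸ X.nu), co_sub, co_smul, X.B_co, hB, hx.1]
        have := X.nu
        have := X.two
        have := X.four
        field_simp
        ring
      have vb : val B e ν b ((rGL Q x).val *ᵥ x2) = 1 / 4 := by
        rw [vz, hc2, if_neg hbd, if_neg (sne hb hq), if_neg (sne hb hz1), if_neg (sne hb hz2),
          hc1, if_pos rfl, (out hm).1]
        have h := h2x b hb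
        rw [val] at h
        have := X.two
        have := X.four
        field_simp
        linear_combination 4 * h
      have vc : val B e ν c ((rGL Q x).val *ᵥ x2) = 1 / 4 := by
        rw [vz, hc2, if_neg hcd, if_neg (sne hc' hq), if_neg (sne hc' hz1), if_neg (sne hc' hz2),
          hc1, if_neg hbc.symm, if_neg (sne hc' hm), if_pos rfl, (out ho.2).1]
        have h := h2x c hc'
        rw [val] at h
        have := X.two
        have := X.four
        field_simp
        linear_combination 4 * h
      have vd : val B e ν d ((rGL Q x).val *ᵥ x2) = 1 / 4 := by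
        rw [vz, hc2, if_pos rfl, hc1, if_neg (sne hb hq).symm, if_neg hqm,
          if_neg (sne hc' hq).symm, if_neg hqo, (out hq).1]
        have h := h2x d hd
        rw [val] at h
        have := X.two
        have := X.four
        field_simp
        linear_combination 4 * h
      have vm : val B e ν m ((rGL Q x).val *ᵥ x2) = 1 := by
        rw [vz, hc2, if_neg (sne hd hm).symm, if_neg hqm.symm, if_neg hz1m.symm, if_neg hz2m.symm,
          hc1, if_neg (sne hb hm).symm, if_pos rfl, (out hm).1]
        have h := h2x b hb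
        rw [val] at h
        linear_combination h
      have vo : val B e ν o ((rGL Q x).val *ᵥ x2) = 1 := by
        rw [vz, hc2, if_neg (sne hd ho.2).symm, if_neg hqo.symm, if_neg hz1o.symm,
          if_neg hz2o.symm, hc1, if_neg (sne hb ho.2).symm, if_neg ho.1,
          if_neg (sne hc' ho.2).symm, if_pos rfl, (out ho.2).1]
        have h := h2x c hc'
        rw [val] at h
        linear_combination h
      have h14 : (1 / 4 : F) ≠ 0 := div_ne_zero h1 X.four
      have hsub : ({b, c, d, m, o} : Finset (Fin n)) ⊆ supp B e ν ((rGL Q x).val *ᵥ x2) := by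
        intro r hr
        rw [supp_val X.four]
        simp only [Finset.mem_insert, Finset.mem_singleton] at hr
        rcases hr with rfl | rfl | rfl | rfl | rfl
        exacts [vb ▸ h14, vc ▸ h14, vd ▸ h14, vm ▸ h1, vo ▸ h1]
      have hcard : ({b, c, d, m, o} : Finset (Fin n)).card = 5 := by
        rw [Finset.card_insert_of_notMem, Finset.card_insert_of_notMem,
          Finset.card_insert_of_notMem, Finset.card_pair (Ne.symm ho.1)]
        · simp [sne hd hm, sne hd ho.2]
        · simp [hcd, sne hc' hm, sne hc' ho.2]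
        · simp [hbc, hbd, sne hb hm, sne hb ho.2]
      have h5 := (Finset.card_le_card hsub).trans' hcard.ge
      obtain ⟨-, hvy⟩ := T.v12 hΩ p hy (by omega)
      rcases hvy b (hsub (by simp)) with h | h <;> rw [vb] at h <;>
        rw [div_eq_iff X.four] at h
      · exact h3' (by linear_combination -h)
      · exact T.mixed hΩ p hy h5 (hsub (by simp : b ∈ _)) (hsub (by simp : m ∈ _))
          (by rw [vb, div_eq_iff X.four]; exact h) vm
    · rw [hc] at hsum; push_cast at hsum; exact h1 (by linear_combination hsum)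
    · obtain ⟨A, hA, hAc⟩ := Finset.exists_subset_card_eq (show 3 ≤ S.card by omega)
      obtain ⟨z, hz, hzv⟩ := T.refl_flip hx A
      rw [Finset.sum_congr rfl fun i hi => h2x i (hA hi), Finset.sum_const, hAc, nsmul_eq_mul,
        mul_one] at hzv
      push_cast at hzv
      have hzR : ∀ q ∈ S \ A, val B e ν q z = 4 := fun q hq => by
        rw [hzv, if_neg (Finset.mem_sdiff.mp hq).2, h2x q (Finset.mem_sdiff.mp hq).1]; ring
      have hsub : S \ A ⊆ supp B e ν z := fun q hq => (supp_val X.four).mpr (hzR q hq ▸ X.four)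
      have hc' : 3 ≤ (S \ A).card := by rw [Finset.card_sdiff_of_subset hA]; omega
      obtain ⟨-, hvz⟩ := T.v12 hΩ p hz (hc'.trans (Finset.card_le_card hsub))
      obtain ⟨q, hq⟩ := Finset.card_pos.mp (show 0 < (S \ A).card by omega)
      rcases hvz q (hsub hq) with h | h <;> rw [hzR q hq] at h
      · exact h3' (by linear_combination h)
      · exact X.two (by linear_combination h)
  push Not at h2x
  obtain ⟨i, hi, hi1⟩ := h2x
  have hvi : val B e ν i x = 2 := (hv i hi).resolve_left hi1
  by_cases h1x : ∀ j ∈ S, val B e ν j x = 2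
  · -- all twos
    rw [Finset.sum_congr rfl h1x, Finset.sum_const, nsmul_eq_mul] at hsum
    have hc : ((S.card : ℕ) : F) = ((2 : ℕ) : F) := by
      refine mul_right_cancel₀ X.two ?_
      push_cast
      linear_combination hsum
    have hc7 : p + 2 ≤ S.card := by
      have hmod := (CharP.natCast_eq_natCast F p).mp hc
      have hd : p ∣ S.card - 2 := (Nat.modEq_iff_dvd' (by omega)).mp hmod.symm
      have := Nat.le_of_dvd (by omega) hd
      omega
    obtain ⟨j, hj⟩ := Finset.card_pos.mp (show 0 < (S.erase i).card by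
      have := Finset.card_erase_add_one hi; omega)
    rw [Finset.mem_erase] at hj
    obtain ⟨z, hz, hzv⟩ := T.refl_flip hx {i, j}
    rw [Finset.sum_pair hj.1.symm, hvi, h1x j hj.2] at hzv
    have hzi : val B e ν i z = 2 := by rw [hzv, if_pos (by simp), hvi]; ring
    obtain ⟨q, hq⟩ := Finset.card_pos.mp (show 0 < ((S.erase i).erase j).card by
      have := Finset.card_erase_add_one hi
      have := Finset.card_erase_add_one (Finset.mem_erase.mpr hj)
      omega)
    simp only [Finset.mem_erase] at hq
    have hzq : val B e ν q z = 18 := by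
      rw [hzv, if_neg (by simp [hq.1, hq.2.1]), h1x q hq.2.2]; ring
    have h18 : (18 : F) ≠ 0 := by
      rw [show (18 : F) = 2 * (3 * 3) by norm_num]
      exact mul_ne_zero X.two (mul_ne_zero h3' h3')
    have hsub : S ⊆ supp B e ν z := fun r hr => by
      rw [supp_val X.four, hzv, h1x r hr]
      split_ifs
      · exact mul_ne_zero (pow_ne_zero 2 (show (2 + 2 - 3 : F) ≠ 0 by norm_num)) X.two
      · exact mul_ne_zero (pow_ne_zero 2 (show (2 + 2 - 1 : F) ≠ 0 by norm_num; exact h3')) X.two
    have h5 : 5 ≤ (supp B e ν z).card := by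
      have := Finset.card_le_card hsub; omega
    obtain ⟨-, hvz⟩ := T.v12 hΩ p hz (by omega)
    rcases hvz q (hsub hq.2.2) with h | h
    · exact T.mixed hΩ p hz h5 (hsub hi) (hsub hq.2.2) hzi h
    · rw [hzq] at h
      exact mul_ne_zero X.four X.four (by linear_combination h)
  push Not at h1x
  obtain ⟨j, hj, hj2⟩ := h1x
  have hvj : val B e ν j x = 1 := (hv j hj).resolve_right hj2
  have hij : i ≠ j := fun h => hi1 (h ▸ hvj)
  by_cases h5 : 5 ≤ S.card
  · exact T.mixed hΩ p hx h5 hi hj hvi hvj
  rw [← Finset.add_sum_erase _ _ hi, ← Finset.add_sum_erase _ _ (Finset.mem_erase.mpr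
    ⟨hij.symm, hj⟩), hvi, hvj] at hsum
  rcases (show S.card = 3 ∨ S.card = 4 by omega) with hc | hc
  · obtain ⟨l, hl⟩ := Finset.card_eq_one.mp (show ((S.erase i).erase j).card = 1 by
      have := Finset.card_erase_add_one hi
      have := Finset.card_erase_add_one (Finset.mem_erase.mpr ⟨hij.symm, hj⟩)
      omega)
    have hlm : l ∈ (S.erase i).erase j := by rw [hl]; simp
    simp only [Finset.mem_erase] at hlm
    rw [hl, Finset.sum_singleton] at hsum
    have hvl : val B e ν l x = 1 := by linear_combination hsum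
    obtain ⟨m, hm⟩ := exists_outside (S := S) (by omega)
    obtain ⟨o, ho⟩ := exists_outside (S := insert m S) (by
      have := Finset.card_insert_le m S; omega)
    simp only [Finset.mem_insert, not_or] at ho
    have z0 : co B e ν m x = 0 := not_mem_supp.mp hm
    have z0' : co B e ν o x = 0 := not_mem_supp.mp ho.2
    have him : i ≠ m := fun h => hm (h ▸ hi)
    have hio : i ≠ o := fun h => ho.2 (h ▸ hi)
    have hlmm : l ≠ m := fun h => hm (h ▸ hlm.2.2)
    have hlo : l ≠ o := fun h => ho.2 (h ▸ hlm.2.2)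
    have hjm : j ≠ m := fun h => hm (h ▸ hj)
    have hjo : j ≠ o := fun h => ho.2 (h ▸ hj)
    obtain ⟨x', hx', hc'⟩ := T.swap hx (a := i) (b := m) (c := l) (d := o) him hlo
      (Ne.symm hlm.2.1) hio (Ne.symm hlmm) (Ne.symm ho.1)
    have hy := hx.refl T hx'
    have hB : ∑ r, co B e ν r x * co B e ν r x' = 1 / 4 := by
      rw [Finset.sum_eq_single j]
      · rw [hc', if_neg hij.symm, if_neg hjm, if_neg (Ne.symm hlm.1), if_neg hjo]
        rw [val] at hvj
        have := X.four
        field_simp
        linear_combination hvj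
      · intro r _ hrj
        by_cases hrS : r ∈ S
        · by_cases hri : r = i
          · subst hri; rw [hc', if_pos rfl, z0, mul_zero]
          · have : r ∈ (S.erase i).erase j := Finset.mem_erase.mpr
              ⟨hrj, Finset.mem_erase.mpr ⟨hri, hrS⟩⟩
            rw [hl, Finset.mem_singleton] at this
            subst this
            rw [hc', if_neg hri, if_neg hlmm, if_pos rfl, z0', mul_zero]
        · rw [not_mem_supp.mp hrS, zero_mul]
      · exact fun h => absurd (Finset.mem_univ j) h
    have vz : ∀ r, val B e ν r ((rGL Q x).val *ᵥ x') =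
        4 * (co B e ν r x' - co B e ν r x / 2) ^ 2 := by
      intro r
      rw [val, rGL_act X.space (hx.1 ▸ X.nu), co_sub, co_smul, X.B_co, hB, hx.1]
      have := X.nu
      have := X.two
      have := X.four
      field_simp
      ring
    rw [val] at hvi hvj hvl
    have := X.two
    have := X.four
    have vi : val B e ν i ((rGL Q x).val *ᵥ x') = 1 / 2 := by
      rw [vz, hc', if_pos rfl, z0]; field_simp; linear_combination hvi
    have vj : val B e ν j ((rGL Q x).val *ᵥ x') = 1 / 4 := by
      rw [vz, hc', if_neg hij.symm, if_neg hjm, if_neg (Ne.symm hlm.1), if_neg hjo]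
      field_simp; linear_combination 4 * hvj
    have vl : val B e ν l ((rGL Q x).val *ᵥ x') = 1 / 4 := by
      rw [vz, hc', if_neg hlm.2.1, if_neg hlmm, if_pos rfl, z0']
      field_simp; linear_combination 4 * hvl
    have hsub : ({i, j, l} : Finset (Fin n)) ⊆ supp B e ν ((rGL Q x).val *ᵥ x') := by
      intro r hr
      rw [supp_val X.four]
      simp only [Finset.mem_insert, Finset.mem_singleton] at hr
      rcases hr with rfl | rfl | rfl
      exacts [vi ▸ div_ne_zero h1 X.two, vj ▸ div_ne_zero h1 X.four,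
        vl ▸ div_ne_zero h1 X.four]
    obtain ⟨-, hvy⟩ := T.v12 hΩ p hy ((Finset.card_le_card hsub).trans' (by
      rw [Finset.card_insert_of_notMem (by simp [hij, Ne.symm hlm.2.1]),
        Finset.card_pair (Ne.symm hlm.1)]))
    rcases hvy i (hsub (by simp)) with h | h <;> rw [vi, div_eq_iff X.two] at h
    · exact h1 (by linear_combination -h)
    · exact h3' (by linear_combination -h)
  · obtain ⟨l, m, hlm, hR⟩ := Finset.card_eq_two.mp (show ((S.erase i).erase j).card = 2 by
      have := Finset.card_erase_add_one hi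
      have := Finset.card_erase_add_one (Finset.mem_erase.mpr ⟨hij.symm, hj⟩)
      omega)
    have mem : l ∈ (S.erase i).erase j ∧ m ∈ (S.erase i).erase j := by rw [hR]; simp
    simp only [Finset.mem_erase] at mem
    rw [hR, Finset.sum_pair hlm] at hsum
    rcases hv l mem.1.2.2 with a | a <;> rcases hv m mem.2.2.2 with b | b <;> rw [a, b] at hsum
    · exact h1 (by linear_combination hsum)
    · exact X.two (by linear_combination hsum)
    · exact X.two (by linear_combination hsum)
    · exact h3' (by linear_combination hsum)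

include p in
/-- The class is standard. -/
theorem Ctx.exact {x : ι → F} (hx : Cls Q e ν H x) : Std B e ν x := by
  classical
  have X := T.frame
  have hp2 : p ≠ 2 := fun h => X.two (by
    have := CharP.cast_eq_zero F p; rw [h] at this; exact_mod_cast this)
  have h0 : (supp B e ν x).card ≠ 0 := fun h => by
    have := X.sum_val hx.1
    rw [Finset.card_eq_zero.mp h, Finset.sum_empty] at this
    exact X.four this.symm
  have h3 : ¬ 3 ≤ (supp B e ν x).card := fun h => T.no_three hΩ p hx h
  by_cases h1 : (supp B e ν x).card = 1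
  · exact Or.inl h1
  have h2 : (supp B e ν x).card = 2 := by omega
  refine Or.inr ⟨h2, fun i hi => ?_⟩
  by_cases hp7 : p ≤ 7
  · exact (T.small_char hΩ p hp7 hx).2 h2 i hi
  · refine T.two_std hΩ p ?_ hx h2 hi
    have h := (Fact.out : p.Prime)
    by_contra hc
    interval_cases p <;> first | omega | (revert h; decide)

end Ctx

end Cfsg.Lib.Linear.FrameMax
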