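import Cfsg.Agent.Lib.Linear.FrameMax.Exact

/-!
# Elements preserving the class stabilise the frame
-/

set_option autoImplicit false

namespace Cfsg.Lib.Linear.FrameMax

open Module Cfsg.Lib.Linear.Orth
open scoped Matrix

variable {ι : Type} [Fintype ι] [DecidableEq ι] {F : Type*} [Field F]
  {Q : (ι → F) → F} {B : LinearMap.BilinForm F (ι → F)}
  {n : ℕ} {e : Fin n → (ι → F)} {ν : F} {H : Subgroup (GL ι F)}

/-- A monomial element: the permutation and the signs. -/
structure Mono (Q : (ι → F) → F) (e : Fin n → (ι → F)) (g : GL ι F) (π : Equiv.Perm (Fin n))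
    (s : Fin n → F) : Prop where
  iso : g ∈ isometryGroup F Q
  eq : ∀ c, g.val *ᵥ e c = s c • e (π c)

section Frame

variable (X : Frame Q B e ν) {g : GL ι F} {π : Equiv.Perm (Fin n)} {s : Fin n → F}

include X

theorem Frame.exists_mono (hI : g ∈ isometryGroup F Q)
    (hg : g ∈ Cfsg.Geo.decompositionStabilizer (fun i => Submodule.span F {e i})) :
    ∃ π s, Mono Q e g π s := by
  obtain ⟨π, hπ⟩ := Frame.of_stab (e := e) hg
  choose s hs using hπ
  exact ⟨π, s, hI, hs⟩

theorem Mono.sq (m : Mono Q e g π s) (c : Fin n) : s c ^ 2 = 1 := by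
  have h := mem_iso.mp m.iso (e c)
  rw [m.eq, X.space.smul, X.norm, X.norm] at h
  exact mul_right_cancel₀ X.nu (h.trans (one_mul ν).symm)

theorem Mono.ne (m : Mono Q e g π s) (c : Fin n) : s c ≠ 0 := fun h => by
  have := m.sq X c
  rw [h] at this
  simp at this

theorem Mono.co_act (m : Mono Q e g π s) (c : Fin n) (y : ι → F) :
    co B e ν (π c) (g.val *ᵥ y) = s c * co B e ν c y := by
  classical
  conv_lhs => rw [← X.expand y]
  rw [Matrix.mulVec_sum, co_sum, Finset.sum_eq_single c]
  · rw [Matrix.mulVec_smul, m.eq, co_smul, co_smul, X.co_e, if_pos rfl]; ring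
  · intro d _ hd
    rw [Matrix.mulVec_smul, m.eq, co_smul, co_smul, X.co_e,
      if_neg (fun h => hd (π.injective h).symm)]
    ring
  · exact fun h => absurd (Finset.mem_univ c) h

theorem Mono.invol (m : Mono Q e g π s) (h2 : g * g = 1) (c : Fin n) : π (π c) = c := by
  have h := congrArg (fun τ : GL ι F => co B e ν c (τ.val *ᵥ e c)) h2
  simp only [mul_act, m.eq, Matrix.mulVec_smul, co_smul, Units.val_one, Matrix.one_mulVec,
    X.co_e, if_true] at h
  by_contra hne
  rw [if_neg (Ne.symm hne), mul_zero, mul_zero] at h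
  exact zero_ne_one h

theorem Mono.neg_moved (m : Mono Q e g π s) {y : ι → F} (hy : g.val *ᵥ y = -y) {c : Fin n}
    (hc : c ∈ supp B e ν y) : π c ∈ supp B e ν y ∧ g.val *ᵥ e c ≠ e c ∧ (π c = c → s c = -1) := by
  have h := m.co_act X c y
  rw [hy, co_neg] at h
  have hne := mem_supp.mp hc
  have h1 : π c = c → s c = -1 := fun hp => by
    rw [hp] at h
    exact mul_right_cancel₀ hne (by linear_combination -h)
  refine ⟨mem_supp.mpr fun h0 => ?_, fun hf => ?_, h1⟩
  · rw [h0, neg_zero] at h
    exact mul_ne_zero (m.ne X c) hne h.symm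
  · rw [m.eq] at hf
    have hcc := congrArg (co B e ν c) hf
    rw [co_smul, X.co_e, X.co_e, if_pos rfl] at hcc
    by_cases hp : π c = c
    · rw [hp, if_pos rfl, mul_one, h1 hp] at hcc
      exact X.two (by linear_combination -hcc)
    · rw [if_neg (Ne.symm hp), mul_zero] at hcc
      exact zero_ne_one hcc

theorem Frame.std_one {x : ι → F} (hx : Q x = ν) {a : Fin n} (h : supp B e ν x = {a}) :
    x = e a ∨ x = -e a := by
  have hs := X.sum_sq hx
  rw [← X.sum_supp, h, Finset.sum_singleton] at hs
  rcases sq_eq_one_iff.mp hs with hc | hc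
  · refine Or.inl (X.ext fun l => ?_)
    rw [X.co_e]
    split_ifs with hl
    · rw [hl, hc]
    · exact not_mem_supp.mp (by rw [h]; simpa using hl)
  · refine Or.inr (X.ext fun l => ?_)
    rw [co_neg, X.co_e]
    split_ifs with hl
    · rw [hl, hc]
    · rw [neg_zero]
      exact not_mem_supp.mp (by rw [h]; simpa using hl)

theorem rGL_smul' {v : ι → F} (hv : Q v ≠ 0) {c : F} (hc : c ≠ 0) :
    rGL Q (c • v) = rGL Q v := by
  have h : Q (c • v) ≠ 0 := by rw [X.space.smul]; exact mul_ne_zero (pow_ne_zero 2 hc) hv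
  refine gl_ext fun z => ?_
  rw [rGL_act X.space h, rGL_act X.space hv, X.space.smul, map_smul, LinearMap.smul_apply,
    smul_eq_mul]
  match_scalars
  · ring
  · field_simp

end Frame

section Ctx

variable [Finite F] (T : Ctx Q B e ν H)

include T

/-- The allowed vectors of norm `ν` are in the class. -/
theorem Ctx.cls_std {x : ι → F} (hx : Q x = ν) (hs : Std B e ν x) : Cls Q e ν H x := by
  classical
  have X := T.frame
  rcases hs with h1 | ⟨h2, hv⟩
  · obtain ⟨a, ha⟩ := Finset.card_eq_one.mp h1
    rcases X.std_one hx ha with rfl | rfl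
    · exact T.cls_e a
    · refine ⟨hx, fun i => ?_⟩
      rw [← neg_one_smul F (e a), rGL_smul' X (X.Qne a) (neg_ne_zero.mpr one_ne_zero)]
      exact T.rr_frame a i
  obtain ⟨a, b, hab, hS⟩ := Finset.card_eq_two.mp h2
  have hca : co B e ν a x ≠ 0 := mem_supp.mp (by rw [hS]; simp)
  set σ := co B e ν b x / co B e ν a x with hσ'
  have hσ : σ ^ 2 = 1 := by
    have h := hv a (by rw [hS]; simp)
    have h' := hv b (by rw [hS]; simp)
    rw [val] at h h'
    rw [hσ', div_pow, div_eq_one_iff_eq (pow_ne_zero 2 hca)]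
    exact mul_left_cancel₀ X.four (h'.trans h.symm)
  have hx' : x = co B e ν a x • (e a + σ • e b) := by
    refine X.ext fun l => ?_
    rw [co_smul, co_add, co_smul, X.co_e, X.co_e]
    by_cases h1 : l = a
    · subst h1; rw [if_pos rfl, if_neg hab]; ring
    by_cases h3 : l = b
    · subst h3; rw [if_neg h1, if_pos rfl, hσ']; field_simp; ring
    rw [if_neg h1, if_neg h3]
    rw [not_mem_supp.mp (show l ∉ supp B e ν x by rw [hS]; simp [h1, h3])]
    ring
  refine ⟨hx, fun i => T.le ⟨?_, ?_⟩⟩
  · refine mul_mem ?_ ?_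
    · rw [hx', rGL_smul' X (X.root_ne hab σ hσ) hca]
      clear hx'
      refine X.mem_stab (Equiv.swap a b) fun m => ?_
      refine ⟨if m = a ∨ m = b then -σ else 1, ?_, X.ext fun q => ?_⟩
      · split_ifs
        · exact neg_ne_zero.mpr fun h => by rw [h] at hσ; simp at hσ
        · exact one_ne_zero
      · rw [X.co_root hab σ hσ, co_smul, X.co_e, X.co_e, X.co_e, X.co_e]
        by_cases h1 : m = a
        · subst h1; rw [Equiv.swap_apply_left]; split_ifs <;> simp_all
        by_cases h3 : m = b
        · subst h3; rw [Equiv.swap_apply_right]; split_ifs <;> simp_all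
        rw [Equiv.swap_apply_of_ne_of_ne h1 h3]
        split_ifs <;> simp_all
    · clear hx'
      refine X.mem_stab 1 fun m => ⟨if m = i then -1 else 1, by split_ifs <;> norm_num,
        X.ext fun q => ?_⟩
      rw [X.co_refl, co_smul, Equiv.Perm.one_apply, X.co_e]
      split_ifs <;> simp_all
  · rw [omegaGL_eq X.space X.five, ← comm_eq_root X.space X.five]
    exact rGL_mul_rGL_mem X.space X.five (hx ▸ X.nu) (by rw [hx, X.norm])

variable (hΩ : ¬ Cfsg.Geo.omegaGL Q ≤ H) (p : ℕ) [Fact p.Prime] [CharP F p]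

include hΩ p

/-- An element mapping a vector of the class into the class stabilises the frame. -/
theorem Ctx.maps {g : GL ι F} (hg : g ∈ H) {d : ι → F} (hd : Cls Q e ν H d)
    (hgd : Cls Q e ν H (g.val *ᵥ d)) :
    g ∈ Cfsg.Geo.decompositionStabilizer (fun i => Submodule.span F {e i}) := by
  classical
  have X := T.frame
  have C := X.space
  have hI := T.le_iso hg
  have hpres : ∀ x, Cls Q e ν H x → Cls Q e ν H (g.val *ᵥ x) := fun x hx => by
    refine ⟨by rw [mem_iso.mp hI, hx.1], fun j => ?_⟩
    have h := mul_mem (mul_mem hg (hx.pair T hd)) (inv_mem hg)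
    rw [show g * (rGL Q x * rGL Q d) * g⁻¹ = g * rGL Q x * g⁻¹ * (g * rGL Q d * g⁻¹) by group,
      rGL_conj C (hx.1 ▸ X.nu) hI, rGL_conj C (hd.1 ▸ X.nu) hI] at h
    have h' := mul_mem h (hgd.2 j)
    rwa [← mul_assoc, mul_assoc (rGL Q _), rGL_sq C (hgd.1 ▸ X.nu), mul_one] at h'
  let f : {x // Cls Q e ν H x} → {x // Cls Q e ν H x} := fun x => ⟨_, hpres x.1 x.2⟩
  have hf : Function.Surjective f := Finite.injective_iff_surjective.mp fun a b h =>
    Subtype.ext (act_injective g (congrArg Subtype.val h))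
  have key : ∀ l, ∃ a, g.val *ᵥ e l = e a ∨ g.val *ᵥ e l = -e a := by
    intro l
    have hy := hpres _ (T.cls_e l)
    rcases T.exact hΩ p hy with h1 | ⟨h2, hv⟩
    · obtain ⟨a, ha⟩ := Finset.card_eq_one.mp h1
      exact ⟨a, X.std_one hy.1 ha⟩
    exfalso
    obtain ⟨a, b, hab, hS⟩ := Finset.card_eq_two.mp h2
    set y := g.val *ᵥ e l with hyl
    have hn := X.big
    obtain ⟨c, hc⟩ := exists_outside (S := ({a, b} : Finset (Fin n))) (by
      have := Finset.card_le_two (a := a) (b := b); omega)
    obtain ⟨m, hm⟩ := exists_outside (S := ({a, b, c} : Finset (Fin n))) (by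
      have := Finset.card_le_three (a := a) (b := b) (c := c); omega)
    obtain ⟨o, ho⟩ := exists_outside (S := ({a, b, c, m} : Finset (Fin n))) (by
      have := Finset.card_le_four (a := a) (b := b) (c := c) (d := m); omega)
    simp only [Finset.mem_insert, Finset.mem_singleton, not_or] at hc hm ho
    obtain ⟨y', hy', hyc⟩ := T.swap hy (a := b) (b := c) (c := m) (d := o) (Ne.symm hc.2)
      (Ne.symm ho.2.2.2) (Ne.symm hm.2.1) (Ne.symm ho.2.1) (Ne.symm hm.2.2) (Ne.symm ho.2.2.1)
    have z : ∀ q, q ≠ a → q ≠ b → co B e ν q y = 0 := fun q h1 h3 =>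
      not_mem_supp.mp (by rw [hS]; simp [h1, h3])
    have hsum : ∑ q, co B e ν q y * co B e ν q y' = co B e ν a y ^ 2 := by
      rw [Finset.sum_eq_single a]
      · rw [hyc, if_neg hab, if_neg (Ne.symm hc.1), if_neg (Ne.symm hm.1), if_neg (Ne.symm ho.1)]
        ring
      · intro q _ hq
        by_cases hqb : q = b
        · subst hqb; rw [hyc, if_pos rfl, z c hc.1 hc.2, mul_zero]
        · rw [z q hq hqb, zero_mul]
      · exact fun h => absurd (Finset.mem_univ a) h
    obtain ⟨⟨w, hw⟩, hwe⟩ := hf ⟨y', hy'⟩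
    have hwe' : g.val *ᵥ w = y' := congrArg Subtype.val hwe
    have hcol : co B e ν l w = co B e ν a y ^ 2 := by
      have h := C.B_act hI (e l) w
      rw [hwe', ← hyl, X.B_co, hsum, X.B_e] at h
      exact (mul_left_cancel₀ X.two_nu h).symm
    have hva := hv a (by rw [hS]; simp)
    rw [val] at hva
    have h1l : val B e ν l w = 1 := by
      rw [val, hcol]
      have h4 : co B e ν a y ^ 2 = 2 / 4 := by
        rw [eq_div_iff X.four]; linear_combination hva
      rw [h4]
      have := X.four
      field_simp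
      norm_num
    have hlw : l ∈ supp B e ν w := (supp_val X.four).mpr (h1l ▸ one_ne_zero)
    rcases T.exact hΩ p hw with h1 | ⟨-, hv'⟩
    · obtain ⟨q, hq⟩ := Finset.card_eq_one.mp h1
      have hs := X.sum_val hw.1
      rw [hq] at hlw hs
      rw [Finset.mem_singleton] at hlw
      subst hlw
      rw [Finset.sum_singleton, h1l] at hs
      have h3 : (3 : F) = 0 := by linear_combination -hs
      have hp3 : p = 3 := (Nat.prime_dvd_prime_iff_eq (Fact.out : p.Prime) Nat.prime_three).mp
        ((CharP.cast_eq_zero_iff F p 3).mp (by exact_mod_cast h3))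
      obtain ⟨k, hk⟩ := T.prime (co B e ν a y)
      subst hp3
      rw [hk, CharP.cast_eq_mod F 3 k] at hva
      have : k % 3 < 3 := Nat.mod_lt _ (by norm_num)
      interval_cases hk3 : k % 3
      · norm_num at hva
        exact X.two hva.symm
      · norm_num at hva
        exact X.two (by linear_combination hva)
      · norm_num at hva
        exact X.two (by linear_combination hva - 4 * h3)
    · have := hv' l hlw
      rw [h1l] at this
      exact one_ne_zero (α := F) (by linear_combination -this)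
  choose π hπ using key
  have hinj : Function.Injective π := fun a b hab => by
    by_contra hne
    have h := C.B_act hI (e a) (e b)
    rw [X.orth a b hne] at h
    rcases hπ a with ha | ha <;> rcases hπ b with hb | hb <;> rw [ha, hb, hab] at h <;>
      simp [X.self, X.two, X.nu] at h
  refine X.mem_stab (Equiv.ofBijective π (Finite.injective_iff_bijective.mp hinj)) fun l => ?_
  rcases hπ l with h | h
  · exact ⟨1, one_ne_zero, by rw [h, one_smul]; rfl⟩
  · exact ⟨-1, neg_ne_zero.mpr one_ne_zero, by rw [h, neg_one_smul]; rfl⟩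

/-- An element fixing a frame vector stabilises the frame. -/
theorem Ctx.fix_stab {g : GL ι F} (hg : g ∈ H) {c : Fin n} (hc : g.val *ᵥ e c = e c) :
    g ∈ Cfsg.Geo.decompositionStabilizer (fun i => Submodule.span F {e i}) :=
  T.maps hΩ p hg (T.cls_e c) (by rw [hc]; exact T.cls_e c)

end Ctx

end Cfsg.Lib.Linear.FrameMax
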