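import Cfsg.Agent.Lib.Linear.FrameMax.Maps

/-!
# An overgroup not containing `Ω` stabilises the frame
-/

set_option autoImplicit false

namespace Cfsg.Lib.Linear.FrameMax

open Module Cfsg.Lib.Linear.Orth
open scoped Matrix

variable {ι : Type} [Fintype ι] [DecidableEq ι] {F : Type*} [Field F]
  {Q : (ι → F) → F} {B : LinearMap.BilinForm F (ι → F)}
  {n : ℕ} {e : Fin n → (ι → F)} {ν : F} {H : Subgroup (GL ι F)}

/-- The sign change on four frame vectors. -/
noncomputable def flip4 (Q : (ι → F) → F) (e : Fin n → (ι → F)) (a b c d : Fin n) : GL ι F :=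
  rGL Q (e a) * rGL Q (e b) * (rGL Q (e c) * rGL Q (e d))

section Frame

variable (X : Frame Q B e ν) {a b c d : Fin n} (hab : a ≠ b) (hac : a ≠ c) (had : a ≠ d)
  (hbc : b ≠ c) (hbd : b ≠ d) (hcd : c ≠ d)

include X hab hac had hbc hbd hcd

theorem Frame.co_four (x : ι → F) (l : Fin n) : co B e ν l ((flip4 Q e a b c d).val *ᵥ x) =
    if l ∈ ({a, b, c, d} : Finset (Fin n)) then -co B e ν l x else co B e ν l x := by
  rw [flip4, mul_act, mul_act, mul_act, X.co_refl, X.co_refl, X.co_refl, X.co_refl]
  simp only [Finset.mem_insert, Finset.mem_singleton]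
  split_ifs <;> simp_all

theorem Frame.four_sq : flip4 Q e a b c d * flip4 Q e a b c d = 1 := gl_ext fun x => X.ext fun l => by
  rw [mul_act, X.co_four hab hac had hbc hbd hcd, X.co_four hab hac had hbc hbd hcd,
    Units.val_one, Matrix.one_mulVec]
  split_ifs <;> simp

end Frame

theorem eq_half {V : Type*} [AddCommGroup V] [Module F V] (h2 : (2 : F) ≠ 0) {x y : V}
    (h : y = -x) : x = (-(2⁻¹ : F)) • (y - x) := by
  subst h
  match_scalars
  field_simp
  ring

section Ctx

variable [Finite F] (T : Ctx Q B e ν H) (hΩ : ¬ Cfsg.Geo.omegaGL Q ≤ H)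
  (p : ℕ) [Fact p.Prime] [CharP F p]

include T hΩ p

/-- Many conjugates of sign changes in the stabiliser. -/
theorem Ctx.mem_of_conj {x : GL ι F} (hx : x ∈ H) {U : Finset (Fin n)} (hU : 5 ≤ U.card)
    (h : ∀ u ∈ U, ∀ v ∈ U, u ≠ v → x * (rGL Q (e u) * rGL Q (e v)) * x⁻¹ ∈
      Cfsg.Geo.decompositionStabilizer (fun i => Submodule.span F {e i})) :
    x ∈ Cfsg.Geo.decompositionStabilizer (fun i => Submodule.span F {e i}) := by
  classical
  have X := T.frame
  have C := X.space
  have hI := T.le_iso hx
  obtain ⟨u, hu⟩ := Finset.card_pos.mp (show 0 < U.card by omega)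
  set y := x.val *ᵥ e u with hy
  have hQy : Q y = ν := by rw [hy, mem_iso.mp hI, X.norm]
  by_contra hcon
  have hstd : ¬ Std B e ν y := fun hs => hcon (T.maps hΩ p hx (T.cls_e u) (T.cls_std hQy hs))
  set V := U.erase u with hV
  have hV4 : 4 ≤ V.card := by
    have := Finset.card_erase_add_one hu
    rw [hV]
    omega
  let τ : Fin n → GL ι F := fun v => x * (rGL Q (e u) * rGL Q (e v)) * x⁻¹
  have hτH : ∀ v ∈ V, τ v ∈ H ∧ τ v * τ v = 1 ∧ (τ v).val *ᵥ y = -y := by
    intro v hv
    have hvu : v ≠ u := (Finset.mem_erase.mp hv).1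
    refine ⟨mul_mem (mul_mem hx (T.rr_frame u v)) (inv_mem hx), ?_, ?_⟩
    · have hc : rGL Q (e u) * rGL Q (e v) = rGL Q (e v) * rGL Q (e u) := by
        have h := rGL_conj C (X.Qne v) (rGL_mem C (X.Qne u))
        rw [rGL_fix C (X.Qne u) (X.orth u v hvu.symm)] at h
        exact mul_inv_eq_iff_eq_mul.mp h
      rw [show τ v * τ v = x * (rGL Q (e u) * rGL Q (e v) * (rGL Q (e u) * rGL Q (e v))) * x⁻¹ by
        simp only [τ]; group]
      nth_rewrite 2 [hc]
      rw [show rGL Q (e u) * rGL Q (e v) * (rGL Q (e v) * rGL Q (e u)) = 1 by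
        rw [mul_assoc, ← mul_assoc (rGL Q (e v)), rGL_sq C (X.Qne v), one_mul,
          rGL_sq C (X.Qne u)], mul_one, mul_inv_cancel]
    · simp only [τ, mul_act]
      rw [hy, inv_act, rGL_fix C (X.Qne v) (X.orth v u hvu), rGL_self C (X.Qne u),
        Matrix.mulVec_neg]
  have hmono : ∀ v : Fin n, ∃ πs : Equiv.Perm (Fin n) × (Fin n → F),
      v ∈ V → Mono Q e (τ v) πs.1 πs.2 := by
    intro v
    by_cases hv : v ∈ V
    · obtain ⟨π, s, hm⟩ := X.exists_mono (T.le_iso (hτH v hv).1)
        (h u hu v (Finset.mem_of_mem_erase hv) (Finset.mem_erase.mp hv).1.symm)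
      exact ⟨(π, s), fun _ => hm⟩
    · exact ⟨(1, 1), fun h => absurd h hv⟩
  choose πs hπs using hmono
  set S := supp B e ν y with hS
  -- at most two orbits carry the residual plane
  have three : ∀ v ∈ V, ∀ c1 c2 c3 : Fin n, (τ v).val *ᵥ e c1 ≠ e c1 →
      (τ v).val *ᵥ e c2 ≠ e c2 → (τ v).val *ᵥ e c3 ≠ e c3 →
      c2 ≠ c1 → c2 ≠ (πs v).1 c1 → c3 ≠ c1 → c3 ≠ (πs v).1 c1 → c3 ≠ c2 → c3 ≠ (πs v).1 c2 →
      False := by
    intro v hv c1 c2 c3 m1 m2 m3 d21 d21' d31 d31' d32 d32'
    have hm := hπs v hv
    have hinv := hm.invol X (hτH v hv).2.1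
    have d12 : c1 ≠ (πs v).1 c2 := fun h => d21' (by rw [h, hinv])
    have d13 : c1 ≠ (πs v).1 c3 := fun h => d31' (by rw [h, hinv])
    have d23 : c2 ≠ (πs v).1 c3 := fun h => d32' (by rw [h, hinv])
    let w : Fin 3 → ι → F := fun i => (τ v).val *ᵥ e (![c1, c2, c3] i) - e (![c1, c2, c3] i)
    have hoff : ∀ q c : Fin n, q ≠ c → q ≠ (πs v).1 c →
        co B e ν q ((τ v).val *ᵥ e c - e c) = 0 := fun q c h1 h2 => by
      rw [co_sub, hm.eq, co_smul, X.co_e, X.co_e, if_neg h2, if_neg h1]; ring
    have hon : ∀ c : Fin n, (τ v).val *ᵥ e c ≠ e c →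
        co B e ν c ((τ v).val *ᵥ e c - e c) ≠ 0 := fun c hc => by
      rw [co_sub, hm.eq, co_smul, X.co_e, X.co_e, if_pos rfl]
      by_cases hp : (πs v).1 c = c
      · rw [hp, if_pos rfl, mul_one, sub_ne_zero]
        intro h1
        exact hc (by rw [hm.eq, hp, h1, one_smul])
      · rw [if_neg (Ne.symm hp), mul_zero, zero_sub]
        exact neg_ne_zero.mpr one_ne_zero
    have hli : LinearIndependent F w := by
      rw [Fintype.linearIndependent_iff]
      intro k hk
      simp only [w, Fin.sum_univ_three, Matrix.cons_val_zero, Matrix.cons_val_one,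
        Matrix.cons_val] at hk
      have e1 := congrArg (co B e ν c1) hk
      have e2 := congrArg (co B e ν c2) hk
      have e3 := congrArg (co B e ν c3) hk
      have h0 : ∀ q, co B e ν q (0 : ι → F) = 0 := fun q => by simp [co]
      simp only [co_add, co_smul, h0, hoff c1 c2 d21.symm d12, hoff c1 c3 d31.symm d13,
        hoff c2 c1 d21 d21', hoff c2 c3 d32.symm d23, hoff c3 c1 d31 d31', hoff c3 c2 d32 d32',
        mul_zero, add_zero, zero_add] at e1 e2 e3
      intro i
      fin_cases i
      exacts [(mul_eq_zero.mp e1).resolve_right (hon c1 m1),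
        (mul_eq_zero.mp e2).resolve_right (hon c2 m2),
        (mul_eq_zero.mp e3).resolve_right (hon c3 m3)]
    set P := Submodule.span F (({y, x.val *ᵥ e v} : Finset (ι → F)) : Set (ι → F))
    have hle : Submodule.span F (Set.range w) ≤ P := Submodule.span_le.mpr (by
      rintro _ ⟨i, rfl⟩
      show (τ v).val *ᵥ _ - _ ∈ P
      generalize e (![c1, c2, c3] i) = z
      simp only [τ, mul_act, rGL_act C (X.Qne u), rGL_act C (X.Qne v), Matrix.mulVec_sub,
        Matrix.mulVec_smul, act_inv, ← hy]
      have hyP : y ∈ P := Submodule.subset_span (by simp)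
      have hvP : x.val *ᵥ e v ∈ P := Submodule.subset_span (by simp)
      rw [show ∀ a b c : ι → F, a - b - c - a = -b - c from fun a b c => by abel]
      exact P.sub_mem (P.neg_mem (P.smul_mem _ hvP)) (P.smul_mem _ hyP))
    have := Submodule.finrank_mono hle
    rw [finrank_span_eq_card hli, Fintype.card_fin] at this
    have := this.trans ((finrank_span_finset_le_card _).trans Finset.card_le_two)
    omega
  have hneg : ∀ v ∈ V, ∀ c ∈ S, (πs v).1 c ∈ S ∧ (τ v).val *ᵥ e c ≠ e c := fun v hv c hc =>
    ⟨((hπs v hv).neg_moved X (hτH v hv).2.2 hc).1, ((hπs v hv).neg_moved X (hτH v hv).2.2 hc).2.1⟩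
  obtain ⟨c0, hc0⟩ : S.Nonempty := by
    by_contra h0
    have := X.sum_val hQy
    rw [← hS, Finset.not_nonempty_iff_eq_empty.mp h0, Finset.sum_empty] at this
    exact X.four this.symm
  have hS2 : 2 ≤ S.card := by
    by_contra h0
    exact hstd (Or.inl (by have := Finset.card_pos.mpr ⟨c0, hc0⟩; rw [← hS]; omega))
  -- the part of the support off the orbit of `c0` is one orbit
  have hrest : ∀ v ∈ V, ∀ c ∈ S, c ≠ c0 → c ≠ (πs v).1 c0 →
      ∀ q ∈ S, q = c0 ∨ q = (πs v).1 c0 ∨ q = c ∨ q = (πs v).1 c := by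
    intro v hv c hc h1 h2 q hq
    by_contra hne
    push Not at hne
    exact three v hv c0 c q (hneg v hv c0 hc0).2 (hneg v hv c hc).2 (hneg v hv q hq).2 h1 h2
      hne.1 hne.2.1 hne.2.2.1 hne.2.2.2
  -- two coordinates are not swapped
  have hnoswap : S.card = 2 → ∀ v ∈ V, ∀ c ∈ S, (πs v).1 c = c := by
    intro h2 v hv c hc
    by_contra hne
    refine hstd (Or.inr ⟨h2, ?_⟩)
    obtain ⟨hcS, -⟩ := hneg v hv c hc
    have hpair : S = {c, (πs v).1 c} := (Finset.eq_of_subset_of_card_le
      (by simp [Finset.insert_subset_iff, hc, hcS]) (by rw [Finset.card_pair (Ne.symm hne)]; omega)).symm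
    have hco := (hπs v hv).co_act X c y
    rw [(hτH v hv).2.2, co_neg] at hco
    have hval : val B e ν ((πs v).1 c) y = val B e ν c y := by
      rw [val, val]
      have hs := (hπs v hv).sq X c
      linear_combination (-4 * (co B e ν ((πs v).1 c) y - (πs v).2 c * co B e ν c y)) * hco +
        4 * co B e ν c y ^ 2 * hs
    have hsum := X.sum_val hQy
    rw [← hS, hpair, Finset.sum_pair (Ne.symm hne), hval] at hsum
    intro i hi
    have hc2 : val B e ν c y = 2 := mul_left_cancel₀ X.two (by linear_combination hsum)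
    rw [← hS, hpair, Finset.mem_insert, Finset.mem_singleton] at hi
    rcases hi with rfl | rfl
    · exact hc2
    · rw [hval]; exact hc2
  -- equal values at `c0` give equal elements
  have heq : ∀ v ∈ V, ∀ v' ∈ V, (πs v).1 c0 = (πs v').1 c0 → τ v = τ v' := by
    intro v hv v' hv' h0
    have hinv := (hπs v hv).invol X (hτH v hv).2.1
    have hinv' := (hπs v' hv').invol X (hτH v' hv').2.1
    have hperm : ∀ c ∈ S, (πs v).1 c = (πs v').1 c := by
      intro c hc
      by_cases h1 : c = c0
      · rw [h1, h0]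
      by_cases h2 : c = (πs v).1 c0
      · rw [h2, hinv, h0, hinv']
      by_contra hne
      rcases hrest v hv c hc h1 h2 _ (hneg v' hv' c hc).1 with h | h | h | h
      · exact h2 (by rw [h0, ← h, hinv'])
      · rw [h0] at h; exact h1 ((πs v').1.injective h)
      · rcases hrest v' hv' c hc h1 (h0 ▸ h2) _ (hneg v hv c hc).1 with g | g | g | g
        · exact h2 (by rw [← g, hinv])
        · rw [← h0] at g; exact h1 ((πs v).1.injective g)
        · exact hne (g.trans h.symm)
        · exact hne g
      · exact hne h.symm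
    have hout : ∀ v ∈ V, ∀ c, c ∉ S → (τ v).val *ᵥ e c = e c := by
      intro v hv c hc
      by_contra hcm
      obtain ⟨d, hd, d0, d1⟩ : ∃ d ∈ S, d ≠ c0 ∧ d ≠ (πs v).1 c0 := by
        by_contra hall
        push Not at hall
        have hsub : S ⊆ {c0, (πs v).1 c0} := fun d hd => by
          simp only [Finset.mem_insert, Finset.mem_singleton]
          by_cases h : d = c0
          · exact Or.inl h
          · exact Or.inr (hall d hd h)
        have h2 := (Finset.card_le_card hsub).trans Finset.card_le_two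
        have hfix := hnoswap (by omega) v hv c0 hc0
        rw [hfix, Finset.pair_eq_singleton] at hsub
        have := Finset.card_le_card hsub
        rw [Finset.card_singleton] at this
        omega
      refine three v hv c0 d c (hneg v hv c0 hc0).2 (hneg v hv d hd).2 hcm d0 d1
        (fun h => hc (h ▸ hc0)) (fun h => hc (h ▸ (hneg v hv c0 hc0).1)) (fun h => hc (h ▸ hd))
        (fun h => hc (h ▸ (hneg v hv d hd).1))
    refine gl_ext fun z => ?_
    rw [← X.expand z, Matrix.mulVec_sum, Matrix.mulVec_sum]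
    refine Finset.sum_congr rfl fun c _ => ?_
    rw [Matrix.mulVec_smul, Matrix.mulVec_smul]
    congr 1
    by_cases hc : c ∈ S
    · have a1 := (hπs v hv).co_act X c y
      have a2 := (hπs v' hv').co_act X c y
      rw [(hτH v hv).2.2, co_neg] at a1
      rw [(hτH v' hv').2.2, co_neg, ← hperm c hc] at a2
      rw [(hπs v hv).eq, (hπs v' hv').eq, ← hperm c hc,
        mul_right_cancel₀ (mem_supp.mp hc) (a1.symm.trans a2)]
    · rw [hout v hv c hc, hout v' hv' c hc]
  -- so there are at most three of them
  have hinjτ : ∀ v ∈ V, ∀ v' ∈ V, τ v = τ v' → v = v' := by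
    intro v hv v' hv' he
    by_contra hne
    have h1 : rGL Q (e u) * rGL Q (e v) = rGL Q (e u) * rGL Q (e v') :=
      mul_left_cancel (mul_right_cancel he)
    have h2 := congrArg (fun g : GL ι F => co B e ν v (g.val *ᵥ e v)) (mul_left_cancel h1)
    simp only [X.co_refl, X.co_e, if_true, if_neg hne] at h2
    exact X.two (by linear_combination -h2)
  have hcardS : ∀ v ∈ V, S.card ≤ 4 := fun v hv => by
    by_cases hd : ∃ d ∈ S, d ≠ c0 ∧ d ≠ (πs v).1 c0
    · obtain ⟨d, hd, d0, d1⟩ := hd
      have hsub : S ⊆ {c0, (πs v).1 c0, d, (πs v).1 d} := fun q hq => by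
        simpa using hrest v hv d hd d0 d1 q hq
      exact (Finset.card_le_card hsub).trans Finset.card_le_four
    · push Not at hd
      have hsub : S ⊆ {c0, (πs v).1 c0} := fun q hq => by
        simp only [Finset.mem_insert, Finset.mem_singleton]
        by_cases h : q = c0
        · exact Or.inl h
        · exact Or.inr (hd q hq h)
      have := (Finset.card_le_card hsub).trans Finset.card_le_two
      omega
  obtain ⟨v0, hv0⟩ := Finset.card_pos.mp (show 0 < V.card by omega)
  have h4 := hcardS v0 hv0
  set K := if S.card = 4 then S.erase c0 else S with hK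
  have hmem : ∀ v ∈ V, (πs v).1 c0 ∈ K := by
    intro v hv
    rw [hK]
    split_ifs with h
    · refine Finset.mem_erase.mpr ⟨fun hf => ?_, (hneg v hv c0 hc0).1⟩
      obtain ⟨d, hd, d0⟩ := Finset.exists_mem_ne (show 1 < S.card by omega) c0
      have hsub : S ⊆ {c0, d, (πs v).1 d} := fun q hq => by
        rcases hrest v hv d hd d0 (by rw [hf]; exact d0) q hq with h | h | h | h
        · simp [h]
        · simp [h, hf]
        · simp [h]
        · simp [h]
      have := (Finset.card_le_card hsub).trans Finset.card_le_three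
      omega
    · exact (hneg v hv c0 hc0).1
  have hK3 : K.card ≤ 3 := by
    rw [hK]
    split_ifs with h
    · have := Finset.card_erase_add_one hc0; omega
    · omega
  have := Finset.card_le_card_of_injOn (fun v => (πs v).1 c0) hmem
    (fun v hv v' hv' he => hinjτ v hv v' hv' (heq v hv v' hv' he))
  omega

/-- The centraliser of a sign change on four vectors. -/
theorem Ctx.cent_four {a b c d : Fin n} (hab : a ≠ b) (hac : a ≠ c) (had : a ≠ d) (hbc : b ≠ c)
    (hbd : b ≠ d) (hcd : c ≠ d) {x : GL ι F} (hx : x ∈ H)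
    (hcom : x * flip4 Q e a b c d = flip4 Q e a b c d * x) :
    x ∈ Cfsg.Geo.decompositionStabilizer (fun i => Submodule.span F {e i}) := by
  classical
  have X := T.frame
  have C := X.space
  have hn := X.big
  set S : Finset (Fin n) := {a, b, c, d} with hS
  refine T.mem_of_conj hΩ p hx (U := Finset.univ \ S) (by
    rw [Finset.card_sdiff_of_subset (Finset.subset_univ _), Finset.card_univ, Fintype.card_fin]
    have : S.card ≤ 4 := Finset.card_le_four
    omega) fun u hu v hv _ => ?_
  rw [Finset.mem_sdiff] at hu hv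
  refine T.fix_stab hΩ p (mul_mem (mul_mem hx (T.rr_frame u v)) (inv_mem hx)) (c := a) ?_
  set w := (x⁻¹ : GL ι F).val *ᵥ e a with hw
  have hneg : (flip4 Q e a b c d).val *ᵥ w = -w := by
    refine act_injective x ?_
    show x.val *ᵥ _ = x.val *ᵥ _
    rw [← mul_act, hcom, mul_act, hw, act_inv, Matrix.mulVec_neg, act_inv]
    refine X.ext fun l => ?_
    rw [X.co_four hab hac had hbc hbd hcd, co_neg, X.co_e]
    by_cases hl : l = a
    · subst hl; simp
    · simp [hl]
  have hzero : ∀ q, q ∉ S → co B e ν q w = 0 := fun q hq => by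
    have h := congrArg (co B e ν q) hneg
    rw [X.co_four hab hac had hbc hbd hcd, if_neg hq, co_neg] at h
    exact mul_left_cancel₀ X.two (by linear_combination h)
  rw [mul_act, mul_act, ← hw, mul_act (rGL Q (e u)) (rGL Q (e v)), rGL_fix C (X.Qne v) (by rw [X.B_e, hzero v hv.2, mul_zero]),
    rGL_fix C (X.Qne u) (by rw [X.B_e, hzero u hu.2, mul_zero]), hw, act_inv]

/-- The conjugates of the sign changes on two vectors. -/
theorem Ctx.pair_mem {g : GL ι F} (hg : g ∈ H) {i j : Fin n} (hij : i ≠ j) :
    g * (rGL Q (e i) * rGL Q (e j)) * g⁻¹ ∈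
      Cfsg.Geo.decompositionStabilizer (fun i => Submodule.span F {e i}) := by
  classical
  have X := T.frame
  have C := X.space
  have hn := X.big
  have hI := T.le_iso hg
  set h := g * (rGL Q (e i) * rGL Q (e j)) * g⁻¹ with hh
  have hhH : h ∈ H := mul_mem (mul_mem hg (T.rr_frame i j)) (inv_mem hg)
  have hhI := T.le_iso hhH
  by_contra hcon
  set y1 := g.val *ᵥ e i with hy1
  set y2 := g.val *ᵥ e j with hy2
  have hQ1 : Q y1 ≠ 0 := by rw [hy1, mem_iso.mp hI]; exact X.Qne i
  have hQ2 : Q y2 ≠ 0 := by rw [hy2, mem_iso.mp hI]; exact X.Qne j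
  have hhr : h = rGL Q y1 * rGL Q y2 := by
    rw [hh, show g * (rGL Q (e i) * rGL Q (e j)) * g⁻¹
      = g * rGL Q (e i) * g⁻¹ * (g * rGL Q (e j) * g⁻¹) by group,
      rGL_conj C (X.Qne i) hI, rGL_conj C (X.Qne j) hI]
  have hB12 : B y1 y2 = 0 := by rw [hy1, hy2, C.B_act hI, X.orth i j hij]
  have hsq : h * h = 1 := by
    have hc : rGL Q y1 * rGL Q y2 = rGL Q y2 * rGL Q y1 := by
      have h' := rGL_conj C hQ2 (rGL_mem C hQ1)
      rw [rGL_fix C hQ1 hB12] at h'
      exact mul_inv_eq_iff_eq_mul.mp h'
    rw [hhr]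
    nth_rewrite 2 [hc]
    rw [← mul_assoc, mul_assoc (rGL Q y1), rGL_sq C hQ2, mul_one, rGL_sq C hQ1]
  set Pl := Submodule.span F (Set.range ![y1, y2]) with hPl
  have hy1P : y1 ∈ Pl := Submodule.subset_span ⟨0, rfl⟩
  have hy2P : y2 ∈ Pl := Submodule.subset_span ⟨1, rfl⟩
  have hmov : ∀ z, h.val *ᵥ z - z ∈ Pl := fun z => by
    rw [hhr, mul_act, rGL_act C hQ1, rGL_act C hQ2]
    rw [show ∀ a b c : ι → F, a - b - c - a = -b - c from fun a b c => by abel]
    exact Pl.sub_mem (Pl.neg_mem (Pl.smul_mem _ hy2P)) (Pl.smul_mem _ hy1P)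
  have hnegP : ∀ z ∈ Pl, h.val *ᵥ z = -z := by
    intro z hz
    obtain ⟨k, rfl⟩ := (Submodule.mem_span_range_iff_exists_fun F).mp hz
    simp only [Fin.sum_univ_two, Matrix.cons_val_zero, Matrix.cons_val_one, hhr, mul_act,
      Matrix.mulVec_add, Matrix.mulVec_smul]
    rw [rGL_fix C hQ2 (by rw [C.symm, hB12]), rGL_self C hQ2, rGL_self C hQ1, Matrix.mulVec_neg,
      rGL_fix C hQ1 hB12]
    module
  have hsupp : ∀ q, (∀ z ∈ Pl, co B e ν q z = 0) → False := fun q hq => by
    refine hcon (T.fix_stab hΩ p hhH (c := q) ?_)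
    rw [hhr, mul_act, rGL_fix C hQ2 (by rw [C.symm, X.B_e, hq y2 hy2P, mul_zero]),
      rGL_fix C hQ1 (by rw [C.symm, X.B_e, hq y1 hy1P, mul_zero])]
  have hli : LinearIndependent F ![y1, y2] := by
    rw [Fintype.linearIndependent_iff]
    intro k hk
    simp only [Fin.sum_univ_two, Matrix.cons_val_zero, Matrix.cons_val_one] at hk
    have e1 := congrArg (B y1) hk
    have e2 := congrArg (B y2) hk
    simp only [map_add, map_smul, map_zero, C.self, hB12, C.symm y2 y1, smul_eq_mul, mul_zero,
      add_zero, zero_add] at e1 e2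
    intro q
    fin_cases q
    exacts [(mul_eq_zero.mp e1).resolve_right (mul_ne_zero X.two hQ1),
      (mul_eq_zero.mp e2).resolve_right (mul_ne_zero X.two hQ2)]
  have hdim : finrank F Pl = 2 := by rw [hPl, finrank_span_eq_card hli, Fintype.card_fin]
  -- two independent vectors of the plane have full support
  have cover : ∀ z ∈ Pl, ∀ z' ∈ Pl, z ≠ 0 → z' ∉ Submodule.span F {z} →
      ∀ q, q ∉ supp B e ν z → q ∈ supp B e ν z' := by
    intro z hz z' hz' hz0 hns q hq1
    by_contra hq2
    refine hsupp q fun w hw => ?_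
    have hli' : LinearIndependent F ![z, z'] := (LinearIndependent.pair_iff' hz0).mpr fun c hc =>
      hns (Submodule.mem_span_singleton.mpr ⟨c, hc⟩)
    have hle : Submodule.span F (Set.range ![z, z']) ≤ Pl :=
      Submodule.span_le.mpr (by rintro _ ⟨k, rfl⟩; fin_cases k <;> assumption)
    rw [← Submodule.eq_of_le_of_finrank_eq hle (by
      rw [finrank_span_eq_card hli', Fintype.card_fin, hdim])] at hw
    obtain ⟨k, rfl⟩ := (Submodule.mem_span_range_iff_exists_fun F).mp hw
    simp [Fin.sum_univ_two, co_add, co_smul, not_mem_supp.mp hq1, not_mem_supp.mp hq2]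
  let Rel : Fin n → Fin n → Prop := fun a b =>
    ∃ σ : F, σ ^ 2 = 1 ∧ ∀ z ∈ Pl, co B e ν b z = σ * co B e ν a z
  have rtrans : ∀ {a b c}, Rel a b → Rel b c → Rel a c := fun ⟨σ, hσ, h1⟩ ⟨τ, hτ, h2⟩ =>
    ⟨τ * σ, by rw [mul_pow, hσ, hτ, one_mul], fun z hz => by rw [h2 z hz, h1 z hz]; ring⟩
  have rsymm : ∀ {a b}, Rel a b → Rel b a := fun ⟨σ, hσ, h1⟩ =>
    ⟨σ, hσ, fun z hz => by rw [h1 z hz]; linear_combination (-(co B e ν _ z)) * hσ⟩
  -- the choice of four vectors
  obtain ⟨a, b, c, d, hab, hac, had, hbc, hbd, hcd, hshort, hpair⟩ : ∃ a b c d : Fin n,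
      a ≠ b ∧ a ≠ c ∧ a ≠ d ∧ b ≠ c ∧ b ≠ d ∧ c ≠ d ∧
      (∀ z ∈ Pl, z ≠ 0 → (supp B e ν z).card ≤ 6 →
        supp B e ν z ∩ {a, b, c, d} = {b} ∨
          (a ∈ supp B e ν z ∧ c ∈ supp B e ν z ∧ d ∈ supp B e ν z ∧ b ∉ supp B e ν z)) ∧
      ¬ (Rel a b ∨ Rel c b ∨ Rel d b) := by
    by_cases hu : ∃ z ∈ Pl, z ≠ 0 ∧ (supp B e ν z).card ≤ 6
    · obtain ⟨z, hz, hz0, hz6⟩ := hu
      obtain ⟨b, hb, hbad⟩ : ∃ b ∈ supp B e ν z, ∀ z' ∈ Pl, z' ∉ Submodule.span F {z} →
          (supp B e ν z').card ≤ 6 → b ∉ supp B e ν z' := by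
        by_cases hex : ∃ z' ∈ Pl, z' ∉ Submodule.span F {z} ∧ (supp B e ν z').card ≤ 6
        · obtain ⟨z', hz', hns, h6'⟩ := hex
          obtain ⟨b, hb, hb'⟩ : ∃ b ∈ supp B e ν z, b ∉ supp B e ν z' := by
            by_contra hall
            push Not at hall
            have := Finset.card_le_card (show (Finset.univ : Finset (Fin n)) ⊆ supp B e ν z' from
              fun q _ => by
                by_cases hq : q ∈ supp B e ν z
                · exact hall q hq
                · exact cover z hz z' hz' hz0 hns q hq)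
            rw [Finset.card_univ, Fintype.card_fin] at this
            omega
          refine ⟨b, hb, fun z'' hz'' hns'' h6'' => ?_⟩
          have hz'0 : z' ≠ 0 := fun h => hns (h ▸ Submodule.zero_mem _)
          by_cases hpr : z'' ∈ Submodule.span F {z'}
          · obtain ⟨k, rfl⟩ := Submodule.mem_span_singleton.mp hpr
            rw [not_mem_supp, co_smul, not_mem_supp.mp hb', mul_zero]
          exfalso
          have h1 : Finset.univ ⊆ supp B e ν z' ∪ supp B e ν z'' := fun q _ => by
            rw [Finset.mem_union, or_iff_not_imp_left]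
            exact cover z' hz' z'' hz'' hz'0 hpr q
          have h2 : Finset.univ \ supp B e ν z ⊆ supp B e ν z' ∩ supp B e ν z'' := fun q hq => by
            rw [Finset.mem_sdiff] at hq
            exact Finset.mem_inter.mpr
              ⟨cover z hz z' hz' hz0 hns q hq.2, cover z hz z'' hz'' hz0 hns'' q hq.2⟩
          have h3 := Finset.card_le_card h1
          have h4 := Finset.card_le_card h2
          have h5 := Finset.card_union_add_card_inter (supp B e ν z') (supp B e ν z'')
          rw [Finset.card_sdiff_of_subset (Finset.subset_univ _), Finset.card_univ,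
            Fintype.card_fin] at h4
          rw [Finset.card_univ, Fintype.card_fin] at h3
          omega
        · push Not at hex
          obtain ⟨b, hb⟩ : ∃ b, b ∈ supp B e ν z := by
            by_contra hall
            push Not at hall
            exact hz0 (X.eq_zero fun q => not_mem_supp.mp (hall q))
          exact ⟨b, hb, fun z' h1 h2 h3 => absurd h3 (by have := hex z' h1 h2; omega)⟩
      obtain ⟨A, hA, hA3⟩ := Finset.exists_subset_card_eq (s := Finset.univ \ supp B e ν z)
        (n := 3) (by
          rw [Finset.card_sdiff_of_subset (Finset.subset_univ _), Finset.card_univ,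
            Fintype.card_fin]
          omega)
      obtain ⟨a, c, d, hac, had, hcd, hAe⟩ := Finset.card_eq_three.mp hA3
      have out : ∀ q ∈ A, q ∉ supp B e ν z := fun q hq => (Finset.mem_sdiff.mp (hA hq)).2
      have ha : a ∈ A := by rw [hAe]; simp
      have hc : c ∈ A := by rw [hAe]; simp
      have hd : d ∈ A := by rw [hAe]; simp
      have nb : ∀ q ∈ A, q ≠ b := fun q hq h => out q hq (h ▸ hb)
      refine ⟨a, b, c, d, nb a ha, hac, had, (nb c hc).symm, (nb d hd).symm, hcd, ?_, ?_⟩
      · intro z' hz' hz'0 h6'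
        by_cases hpr : z' ∈ Submodule.span F {z}
        swap
        · exact Or.inr ⟨cover z hz z' hz' hz0 hpr a (out a ha),
            cover z hz z' hz' hz0 hpr c (out c hc), cover z hz z' hz' hz0 hpr d (out d hd),
            hbad z' hz' hpr h6'⟩
        left
        obtain ⟨k, hk⟩ := Submodule.mem_span_singleton.mp hpr
        have hk0 : k ≠ 0 := fun h0 => hz'0 (by rw [← hk, h0, zero_smul])
        ext q
        simp only [Finset.mem_inter, mem_supp, ← hk, co_smul, Finset.mem_insert,
          Finset.mem_singleton]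
        constructor
        · rintro ⟨hq, rfl | rfl | rfl | rfl⟩
          exacts [absurd (mem_supp.mpr (right_ne_zero_of_mul hq)) (out _ ha), rfl,
            absurd (mem_supp.mpr (right_ne_zero_of_mul hq)) (out _ hc),
            absurd (mem_supp.mpr (right_ne_zero_of_mul hq)) (out _ hd)]
        · rintro rfl
          exact ⟨mul_ne_zero hk0 (mem_supp.mp hb), Or.inr (Or.inl rfl)⟩
      · rintro (⟨σ, -, hr⟩ | ⟨σ, -, hr⟩ | ⟨σ, -, hr⟩) <;> apply mem_supp.mp hb <;> rw [hr z hz]
        · rw [not_mem_supp.mp (out a ha), mul_zero]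
        · rw [not_mem_supp.mp (out c hc), mul_zero]
        · rw [not_mem_supp.mp (out d hd), mul_zero]
    push Not at hu
    obtain ⟨o⟩ : Nonempty (Fin n) := ⟨⟨0, by omega⟩⟩
    obtain ⟨q, hoq⟩ : ∃ q, ¬ Rel o q := by
      by_contra hall
      push Not at hall
      let φ : Pl →ₗ[F] F :=
        { toFun := fun z => co B e ν o (z : ι → F)
          map_add' := fun z w => co_add o _ _
          map_smul' := fun k z => co_smul o k _ }
      have hinj : Function.Injective φ := fun z w hzw => Subtype.ext (X.ext fun l => by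
        obtain ⟨σ, -, hσ⟩ := hall l
        rw [hσ _ z.2, hσ _ w.2]
        exact congrArg (σ * ·) hzw)
      have := LinearMap.finrank_le_finrank_of_injective hinj
      rw [hdim, Module.finrank_self] at this
      omega
    have hoq' : o ≠ q := fun h' => hoq (h' ▸ ⟨1, one_pow 2, fun z _ => (one_mul _).symm⟩)
    set U := (Finset.univ : Finset (Fin n)) \ {o, q} with hU
    have hUc : 8 ≤ U.card := by
      rw [hU, Finset.card_sdiff_of_subset (Finset.subset_univ _), Finset.card_univ,
        Fintype.card_fin, Finset.card_pair hoq']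
      omega
    have hUm : ∀ r ∈ U, r ≠ o ∧ r ≠ q := fun r hr => by
      simpa [hU] using hr
    by_cases hfree : ∃ r ∈ U, ¬ Rel o r ∧ ¬ Rel q r
    · obtain ⟨r, hr, hor, hqr⟩ := hfree
      obtain ⟨d, hd⟩ := Finset.card_pos.mp (show 0 < (U.erase r).card by
        have := Finset.card_erase_add_one hr; omega)
      rw [Finset.mem_erase] at hd
      obtain ⟨h1, h2⟩ := hUm r hr
      obtain ⟨h3, h4⟩ := hUm d hd.2
      by_cases hdr : Rel d r
      · exact ⟨r, q, o, d, h2, h1, hd.1.symm, hoq'.symm, h4.symm, h3.symm,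
          fun z hz hz0 h6 => absurd h6 (by have := hu z hz hz0; omega), by
            rintro (h' | h' | h')
            exacts [hqr (rsymm h'), hoq h', hqr (rsymm (rtrans (rsymm hdr) h'))]⟩
      · exact ⟨o, r, q, d, h1.symm, hoq', h3.symm, h2, hd.1.symm, h4.symm,
          fun z hz hz0 h6 => absurd h6 (by have := hu z hz hz0; omega), by
            rintro (h' | h' | h')
            exacts [hor h', hqr h', hdr h']⟩
    push Not at hfree
    by_cases hbig : 2 ≤ (U.filter fun r => Rel o r).card
    · obtain ⟨c, hc, d, hd, hcd⟩ := Finset.one_lt_card.mp hbig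
      rw [Finset.mem_filter] at hc hd
      exact ⟨o, q, c, d, hoq', (hUm c hc.1).1.symm, (hUm d hd.1).1.symm, (hUm c hc.1).2.symm,
        (hUm d hd.1).2.symm, hcd, fun z hz hz0 h6 => absurd h6 (by have := hu z hz hz0; omega), by
          rintro (h' | h' | h')
          exacts [hoq h', hoq (rtrans hc.2 h'), hoq (rtrans hd.2 h')]⟩
    · have hc2 : 2 ≤ (U.filter fun r => ¬ Rel o r).card := by
        have := Finset.card_filter_add_card_filter_not (s := U) (fun r => Rel o r)
        omega
      obtain ⟨c, hc, d, hd, hcd⟩ := Finset.one_lt_card.mp hc2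
      rw [Finset.mem_filter] at hc hd
      exact ⟨q, o, c, d, hoq'.symm, (hUm c hc.1).2.symm, (hUm d hd.1).2.symm, (hUm c hc.1).1.symm,
        (hUm d hd.1).1.symm, hcd, fun z hz hz0 h6 => absurd h6 (by have := hu z hz hz0; omega), by
          rintro (h' | h' | h')
          exacts [hoq (rsymm h'), hc.2 (rsymm h'), hd.2 (rsymm h')]⟩
  -- the involution in the dihedral group
  set S : Finset (Fin n) := {a, b, c, d} with hS
  have hS4 : S.card = 4 := by
    rw [hS, Finset.card_insert_of_notMem (by simp [hab, hac, had]),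
      Finset.card_insert_of_notMem (by simp [hbc, hbd]), Finset.card_pair hcd]
  set t := flip4 Q e a b c d with ht
  have htco : ∀ x l, co B e ν l (t.val *ᵥ x) = if l ∈ S then -co B e ν l x else co B e ν l x :=
    X.co_four hab hac had hbc hbd hcd
  have htH : t ∈ H := mul_mem (T.rr_frame a b) (T.rr_frame c d)
  have htI := T.le_iso htH
  have htsq : t * t = 1 := X.four_sq hab hac had hbc hbd hcd
  have htinv : t⁻¹ = t := inv_eq_of_mul_eq_one_right htsq
  have hhinv : h⁻¹ = h := inv_eq_of_mul_eq_one_right hsq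
  set r := t * h with hr
  have hrinv : r⁻¹ = h * t := by rw [hr, mul_inv_rev, htinv, hhinv]
  have hconj : ∀ k : ℕ, t * r ^ k * t = (r ^ k)⁻¹ ∧ h * r ^ k * h = (r ^ k)⁻¹ := fun k => by
    have e1 : t * r * t⁻¹ = r⁻¹ := by rw [hrinv, htinv, hr, ← mul_assoc t, htsq, one_mul]
    have e2 : h * r * h⁻¹ = r⁻¹ := by rw [hrinv, hhinv, hr, mul_assoc, mul_assoc t, hsq, mul_one]
    constructor
    · calc t * r ^ k * t = t * r ^ k * t⁻¹ := by rw [htinv]
        _ = (r ^ k)⁻¹ := by rw [← conj_pow, e1, inv_pow]
    · calc h * r ^ k * h = h * r ^ k * h⁻¹ := by rw [hhinv]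
        _ = (r ^ k)⁻¹ := by rw [← conj_pow, e2, inv_pow]
  have hpos := orderOf_pos r
  rcases Nat.even_or_odd (orderOf r) with ⟨j, hj⟩ | ⟨j, hj⟩
  swap
  · -- odd order: the two involutions would be conjugate
    have hm := pow_orderOf_eq_one r
    rw [hj, two_mul, pow_add, pow_add, pow_one] at hm
    have hconjw : h = (t * (r ^ j)⁻¹) * t * (t * (r ^ j)⁻¹)⁻¹ := by
      have h1 : t * r ^ j = (r ^ j)⁻¹ * t := by
        rw [← (hconj j).1, mul_assoc, mul_assoc, htsq, mul_one]
      calc h = t * r := by rw [hr, ← mul_assoc, htsq, one_mul]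
        _ = t * (r ^ j * r ^ j)⁻¹ := by rw [inv_eq_of_mul_eq_one_right hm]
        _ = (t * (r ^ j)⁻¹) * ((r ^ j)⁻¹) := by group
        _ = (t * (r ^ j)⁻¹) * t * (t * (r ^ j)⁻¹)⁻¹ := by
          rw [mul_inv_rev, inv_inv, htinv, mul_assoc _ t, ← mul_assoc t, h1]
          rw [mul_assoc ((r ^ j)⁻¹), htsq, mul_one]
    set w := t * (r ^ j)⁻¹
    have hall : ∀ s ∈ S, w.val *ᵥ e s ∈ Pl := by
      intro s hs
      have hts : t.val *ᵥ e s = -e s := X.ext fun l => by
        rw [htco, co_neg, X.co_e]
        by_cases hl : l = s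
        · subst hl; simp [hs]
        · simp [hl]
      have hneg : h.val *ᵥ (w.val *ᵥ e s) = -(w.val *ᵥ e s) := by
        conv_lhs => rw [hconjw]
        rw [mul_act, mul_act, inv_act, hts, Matrix.mulVec_neg]
      rw [eq_half X.two hneg]
      exact Pl.smul_mem _ (hmov _)
    have hli4 : LinearIndependent F (fun s : S => w.val *ᵥ e s.1) := by
      rw [Fintype.linearIndependent_iff]
      intro k hk q
      have h0 : ∑ s : S, k s • e s.1 = 0 := act_injective w (by
        simpa [Matrix.mulVec_sum, Matrix.mulVec_smul] using hk)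
      exact (Fintype.linearIndependent_iff.mp (X.indep.comp _ Subtype.val_injective)) k h0 q
    have hle : Submodule.span F (Set.range fun s : S => w.val *ᵥ e s.1) ≤ Pl :=
      Submodule.span_le.mpr (by rintro _ ⟨s, rfl⟩; exact hall s.1 s.2)
    have := Submodule.finrank_mono hle
    rw [finrank_span_eq_card hli4, Fintype.card_coe, hS4, hdim] at this
    omega
  set z := r ^ j with hz
  have hzH : z ∈ H := pow_mem (mul_mem htH hhH) _
  have hzsq : z * z = 1 := by rw [hz, ← pow_add, ← hj, pow_orderOf_eq_one]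
  have hzinv : z⁻¹ = z := inv_eq_of_mul_eq_one_right hzsq
  have hzt : z * t = t * z := by
    have h1 := (hconj j).1
    rw [← hz, hzinv] at h1
    calc z * t = t * z * t * t := by rw [h1]
      _ = t * z := by rw [mul_assoc _ t t, htsq, mul_one]
  have hzh : z * h = h * z := by
    have h1 := (hconj j).2
    rw [← hz, hzinv] at h1
    calc z * h = h * z * h * h := by rw [h1]
      _ = h * z := by rw [mul_assoc _ h h, hsq, mul_one]
  have hz1 : z ≠ 1 := fun h1 => by
    have := orderOf_dvd_of_pow_eq_one h1
    have := Nat.le_of_dvd (by omega) this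
    omega
  have hzI := T.le_iso hzH
  obtain ⟨π, s, hm⟩ := X.exists_mono hzI (T.cent_four hΩ p hab hac had hbc hbd hcd hzH hzt)
  have hinv := hm.invol X hzsq
  have hπS : ∀ q, q ∈ S ↔ π q ∈ S := fun q => by
    have e1 := congrArg (fun g : GL ι F => co B e ν (π q) (g.val *ᵥ e q)) hzt
    simp only [mul_act] at e1
    rw [hm.co_act X, htco, htco, hm.co_act X, X.co_e, if_pos rfl] at e1
    constructor
    · intro hq
      by_contra hn'
      rw [if_pos hq, if_neg hn'] at e1
      exact hm.ne X q (mul_left_cancel₀ X.two (by linear_combination -e1))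
    · intro hq
      by_contra hn'
      rw [if_neg hn', if_pos hq] at e1
      exact hm.ne X q (mul_left_cancel₀ X.two (by linear_combination e1))
  have hzneg : ∀ q, z.val *ᵥ (z.val *ᵥ e q - e q) = -(z.val *ᵥ e q - e q) := fun q => by
    rw [Matrix.mulVec_sub, ← mul_act, hzsq, Units.val_one, Matrix.one_mulVec, neg_sub]
  set Rs := Submodule.span F (e '' (S : Set (Fin n))) ⊔ Pl with hRs
  have hzR : ∀ v, z.val *ᵥ v - v ∈ Rs := by
    have key : ∀ (k : ℕ) (v : ι → F), (r ^ k).val *ᵥ v - v ∈ Rs := by
      intro k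
      induction k with
      | zero => intro v; simp
      | succ k ih =>
        intro v
        rw [pow_succ', mul_act, hr, mul_act]
        set v1 := (r ^ k).val *ᵥ v
        rw [show t.val *ᵥ (h.val *ᵥ v1) - v =
          (t.val *ᵥ (h.val *ᵥ v1) - h.val *ᵥ v1) + (h.val *ᵥ v1 - v1) + (v1 - v) by abel]
        refine Rs.add_mem (Rs.add_mem ?_ (Submodule.mem_sup_right (hmov _))) (ih v)
        refine Submodule.mem_sup_left (T.mem_of_supp fun l hl => Submodule.subset_span ?_)
        refine ⟨l, ?_, rfl⟩
        by_contra hls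
        rw [mem_supp, co_sub, htco, if_neg (by simpa using hls), sub_self] at hl
        exact hl rfl
    exact key j
  set Mv := (Finset.univ : Finset (Fin n)).filter fun q => z.val *ᵥ e q ≠ e q with hMv
  have hMsupp : ∀ w, z.val *ᵥ w = -w → supp B e ν w ⊆ Mv := fun w hw q hq =>
    Finset.mem_filter.mpr ⟨Finset.mem_univ q, (hm.neg_moved X hw hq).2.1⟩
  have hMπ : ∀ q ∈ Mv, π q ∈ Mv := by
    intro q hq
    rw [hMv, Finset.mem_filter] at hq ⊢
    refine ⟨Finset.mem_univ _, fun h' => hq.2 ?_⟩
    have h1 := h'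
    rw [hm.eq, hinv] at h1
    have h2 := congrArg (co B e ν (π q)) h1
    rw [co_smul, X.co_e, X.co_e, if_pos rfl] at h2
    by_cases hp : π q = q
    · rw [hp] at h'; exact h'
    · rw [if_neg hp, mul_zero] at h2
      exact absurd h2 zero_ne_one
  -- outside the four vectors at most one orbit moves
  have hone : ∀ q ∈ Mv, q ∉ S → ∀ q' ∈ Mv, q' ∉ S → q' = q ∨ q' = π q := by
    intro q hq hqS q' hq' hqS'
    by_contra hne
    push Not at hne
    let pr : (ι → F) →ₗ[F] (ι → F) :=
      { toFun := fun v => ∑ l ∈ Finset.univ \ S, co B e ν l v • e l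
        map_add' := fun v w => by simp [co_add, add_smul, Finset.sum_add_distrib]
        map_smul' := fun k v => by simp only [co_smul, mul_smul, Finset.smul_sum, RingHom.id_apply] }
    have prco : ∀ v l, co B e ν l (pr v) = if l ∈ S then 0 else co B e ν l v := fun v l => by
      show co B e ν l (∑ l' ∈ Finset.univ \ S, co B e ν l' v • e l') = _
      rw [co_sum]
      simp only [co_smul, X.co_e, mul_ite, mul_one, mul_zero, Finset.sum_ite_eq,
        Finset.mem_sdiff, Finset.mem_univ, true_and, ite_not]
    let w1 := z.val *ᵥ e q - e q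
    let w2 := z.val *ᵥ e q' - e q'
    have offS : ∀ (q0 : Fin n), q0 ∉ S → ∀ l ∈ S, co B e ν l (z.val *ᵥ e q0 - e q0) = 0 :=
      fun q0 h0 l hl => by
        rw [co_sub, hm.eq, co_smul, X.co_e, X.co_e,
          if_neg (fun h : l = π q0 => h0 ((hπS q0).mpr (h ▸ hl))),
          if_neg (fun h : l = q0 => h0 (h ▸ hl))]
        ring
    have hsub : ∀ (q0 : Fin n), q0 ∉ S → z.val *ᵥ e q0 - e q0 ∈ Pl.map pr := by
      intro q0 h0
      obtain ⟨v1, hv1, v2, hv2, hv⟩ := Submodule.mem_sup.mp (hzR (e q0))
      refine ⟨v2, hv2, X.ext fun l => ?_⟩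
      rw [prco]
      split_ifs with hl
      · rw [offS q0 h0 l hl]
      · rw [← hv, co_add]
        have : co B e ν l v1 = 0 := by
          have hker : Submodule.span F (e '' (S : Set (Fin n))) ≤ LinearMap.ker (B (e l)) :=
            Submodule.span_le.mpr (by
              rintro _ ⟨i, hi, rfl⟩
              exact LinearMap.mem_ker.mpr (X.orth l i fun h' => hl (h' ▸ hi)))
          have h' := LinearMap.mem_ker.mp (hker hv1)
          rw [X.B_e] at h'
          exact (mul_eq_zero.mp h').resolve_left X.two_nu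
        rw [this, zero_add]
    have cq : ∀ {q0 : Fin n}, q0 ∈ Mv → co B e ν q0 (z.val *ᵥ e q0 - e q0) ≠ 0 := fun {q0} h0 => by
      rw [co_sub, hm.eq, co_smul, X.co_e, X.co_e, if_pos rfl]
      by_cases hp : π q0 = q0
      · rw [hp, if_pos rfl, mul_one, sub_ne_zero]
        intro h1
        exact (Finset.mem_filter.mp h0).2 (by rw [hm.eq, hp, h1, one_smul])
      · rw [if_neg (Ne.symm hp), mul_zero, zero_sub]
        exact neg_ne_zero.mpr one_ne_zero
    have c12 : co B e ν q' w1 = 0 := by
      simp only [w1, co_sub, hm.eq, co_smul, X.co_e, if_neg hne.1, if_neg hne.2, mul_zero,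
        sub_self]
    have hliw : LinearIndependent F ![w1, w2] := by
      refine (LinearIndependent.pair_iff' fun h => cq hq (by
        show co B e ν q w1 = 0
        rw [h]; simp [co])).mpr fun k hk => cq hq' ?_
      show co B e ν q' w2 = 0
      rw [← hk, co_smul, c12, mul_zero]
    have hle : Submodule.span F (Set.range ![w1, w2]) ≤ Pl.map pr :=
      Submodule.span_le.mpr (by
        rintro _ ⟨k, rfl⟩
        fin_cases k
        exacts [hsub q hqS, hsub q' hqS'])
    have heq := Submodule.eq_of_le_of_finrank_le hle (by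
      rw [finrank_span_eq_card hliw, Fintype.card_fin]
      exact (Submodule.finrank_map_le _ _).trans hdim.le)
    obtain ⟨o, ho⟩ := exists_outside (S := S ∪ {q, π q, q', π q'}) (by
      have := Finset.card_union_le S ({q, π q, q', π q'} : Finset (Fin n))
      have := Finset.card_le_four (a := q) (b := π q) (c := q') (d := π q')
      omega)
    simp only [Finset.mem_union, Finset.mem_insert, Finset.mem_singleton, not_or] at ho
    refine hsupp o fun w hw => ?_
    have hp : pr w ∈ Submodule.span F (Set.range ![w1, w2]) := heq ▸ Submodule.mem_map_of_mem hw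
    obtain ⟨k, hk⟩ := (Submodule.mem_span_range_iff_exists_fun F).mp hp
    have := congrArg (co B e ν o) hk
    rw [prco, if_neg ho.1] at this
    simp only [Fin.sum_univ_two, Matrix.cons_val_zero, Matrix.cons_val_one, co_add, co_smul,
      w1, w2, co_sub, hm.eq, X.co_e, if_neg ho.2.1, if_neg ho.2.2.1, if_neg ho.2.2.2.1,
      if_neg ho.2.2.2.2, mul_zero, sub_self, add_zero] at this
    exact this.symm
  have hMv6 : Mv.card ≤ 6 := by
    by_cases hex : ∃ q ∈ Mv, q ∉ S
    · obtain ⟨q, hq, hqS⟩ := hex
      have hsub : Mv ⊆ S ∪ {q, π q} := fun q' hq' => by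
        by_cases hq'S : q' ∈ S
        · exact Finset.mem_union_left _ hq'S
        · exact Finset.mem_union_right _ (by simpa using hone q hq hqS q' hq' hq'S)
      have := Finset.card_le_card hsub
      have := Finset.card_union_le S ({q, π q} : Finset (Fin n))
      have := Finset.card_le_two (a := q) (b := π q)
      omega
    · push Not at hex
      have := Finset.card_le_card (show Mv ⊆ S from hex)
      omega
  -- no frame vector is negated
  have hnofix : ∀ q ∈ Mv, π q ≠ q := by
    intro q hq hp
    have hzq : z.val *ᵥ e q = -e q := by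
      have hne := (Finset.mem_filter.mp hq).2
      rcases sq_eq_one_iff.mp (hm.sq X q) with h1 | h1
      · exact absurd (by rw [hm.eq, hp, h1, one_smul]) hne
      · rw [hm.eq, hp, h1, neg_one_smul]
    by_cases hM5 : Mv.card ≤ 5
    swap
    · -- six moved vectors: the plane splits between the negated and the fixed space
      have hneg0 : ∀ w, z.val *ᵥ w = -w → ∀ l, l ∉ Mv → co B e ν l w = 0 := fun w hw l hl =>
        not_mem_supp.mp fun h' => hl (hMsupp w hw h')
      obtain ⟨c', hc'⟩ := exists_outside (S := Mv) (by omega)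
      have hcfix : z.val *ᵥ e c' = e c' := by
        by_contra h'
        exact hc' (Finset.mem_filter.mpr ⟨Finset.mem_univ _, h'⟩)
      set w' := h.val *ᵥ e q - e q with hw'
      set f := h.val *ᵥ e c' - e c' with hf
      have hw'0 : w' ≠ 0 := fun h' => hcon (T.fix_stab hΩ p hhH (c := q) (sub_eq_zero.mp h'))
      have hf0 : f ≠ 0 := fun h' => hcon (T.fix_stab hΩ p hhH (c := c') (sub_eq_zero.mp h'))
      have hzw' : z.val *ᵥ w' = -w' := by
        rw [hw', Matrix.mulVec_sub, ← mul_act, hzh, mul_act, hzq, Matrix.mulVec_neg]; abel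
      have hzf : z.val *ᵥ f = f := by
        rw [hf, Matrix.mulVec_sub, ← mul_act, hzh, mul_act, hcfix]
      have hw'f : w' ∉ Submodule.span F {f} := fun h' => by
        obtain ⟨k, hk⟩ := Submodule.mem_span_singleton.mp h'
        have h1 : z.val *ᵥ w' = w' := by rw [← hk, Matrix.mulVec_smul, hzf]
        rw [hzw'] at h1
        exact hw'0 (X.eq_zero fun l => mul_left_cancel₀ X.two (by
          have := congrArg (co B e ν l) h1
          rw [co_neg] at this
          linear_combination -this))
      -- negated frame vectors lie in the support of `w'`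
      have hin : ∀ l ∈ Mv, π l = l → l ∈ supp B e ν w' := by
        intro l hl hpl
        refine cover f (hmov _) w' (hmov _) hf0 hw'f l (not_mem_supp.mpr ?_)
        have hne := (Finset.mem_filter.mp hl).2
        have hs : s l = -1 := by
          rcases sq_eq_one_iff.mp (hm.sq X l) with h1 | h1
          · exact absurd (by rw [hm.eq, hpl, h1, one_smul]) hne
          · exact h1
        have h1 := hm.co_act X l f
        rw [hzf, hpl, hs] at h1
        exact mul_left_cancel₀ X.two (by linear_combination h1)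
      have h6 : (supp B e ν w').card ≤ 6 := (Finset.card_le_card (hMsupp w' hzw')).trans hMv6
      obtain ⟨hSM, hqS⟩ : S ⊆ Mv ∧ q ∈ S := by
        by_cases hex : ∃ l ∈ Mv, l ∉ S
        · obtain ⟨l, hl, hlS⟩ := hex
          have hsub : Mv ⊆ S ∪ {l, π l} := fun q' hq' => by
            by_cases hq'S : q' ∈ S
            · exact Finset.mem_union_left _ hq'S
            · exact Finset.mem_union_right _ (by simpa using hone l hl hlS q' hq' hq'S)
          have hc2 := Finset.card_union_le S ({l, π l} : Finset (Fin n))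
          have := Finset.card_le_two (a := l) (b := π l)
          have heq := Finset.eq_of_subset_of_card_le hsub (by omega)
          refine ⟨fun x hx => heq ▸ Finset.mem_union_left _ hx, ?_⟩
          by_contra hqS
          have hsub' : Mv ⊆ S ∪ {q} := fun q' hq' => by
            by_cases hq'S : q' ∈ S
            · exact Finset.mem_union_left _ hq'S
            · refine Finset.mem_union_right _ (Finset.mem_singleton.mpr ?_)
              rcases hone q hq hqS q' hq' hq'S with h' | h'
              exacts [h', h'.trans hp]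
          have := Finset.card_le_card hsub'
          have := Finset.card_union_le S ({q} : Finset (Fin n))
          rw [Finset.card_singleton] at this
          omega
        · push Not at hex
          have := Finset.card_le_card (show Mv ⊆ S from hex)
          omega
      have hπS' : ∀ l ∈ S, π l = a ∨ π l = b ∨ π l = c ∨ π l = d := fun l hl => by
        simpa [hS] using (hπS l).mp hl
      rcases hshort w' (hmov _) hw'0 h6 with hI' | ⟨ha', hc'', hd', hb'⟩
      · have key : ∀ l ∈ S, π l = l → l = b := fun l hl hpl => Finset.mem_singleton.mp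
          (hI' ▸ Finset.mem_inter.mpr ⟨hin l (hSM hl) hpl, hl⟩)
        have hqb := key q hqS hp
        rw [hqb] at hp
        -- three points without a fixed point
        have hfree : ∀ l ∈ S, l ≠ b → π l ≠ l ∧ π l ≠ b := fun l hl hlb =>
          ⟨fun h' => hlb (key l hl h'), fun h' => hlb (π.injective (h'.trans hp.symm))⟩
        obtain ⟨na, na'⟩ := hfree a (by simp [hS]) hab
        obtain ⟨nc, nc'⟩ := hfree c (by simp [hS]) hbc.symm
        obtain ⟨nd, nd'⟩ := hfree d (by simp [hS]) hbd.symm
        rcases hπS' a (by simp [hS]) with h | h | h | h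
        · exact na h
        · exact na' h
        · have e1 : π c = a := by rw [← h, hinv]
          rcases hπS' d (by simp [hS]) with h' | h' | h' | h'
          exacts [hcd (π.injective (e1.trans h'.symm)), nd' h',
            had (π.injective (h.trans h'.symm)), nd h']
        · have e1 : π d = a := by rw [← h, hinv]
          rcases hπS' c (by simp [hS]) with h' | h' | h' | h'
          exacts [hcd (π.injective (h'.trans e1.symm)), nc' h', nc h',
            hac (π.injective (h.trans h'.symm))]
      · refine hb' (hin b (hSM (by simp [hS])) ?_)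
        have himg : ∀ l ∈ supp B e ν w', π l ∈ supp B e ν w' := fun l hl =>
          (hm.neg_moved X hzw' hl).1
        rcases hπS' b (by simp [hS]) with h' | h' | h' | h'
        · exact absurd (by rw [← hinv b, h']; exact himg a ha') hb'
        · exact h'
        · exact absurd (by rw [← hinv b, h']; exact himg c hc'') hb'
        · exact absurd (by rw [← hinv b, h']; exact himg d hd') hb'
    set U := Finset.univ \ Mv with hU
    refine hcon (T.mem_of_conj hΩ p hhH (U := U) ?_ fun u hu v hv _ => ?_)
    · rw [hU, Finset.card_sdiff_of_subset (Finset.subset_univ _), Finset.card_univ,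
        Fintype.card_fin]
      omega
    rw [hU, Finset.mem_sdiff] at hu hv
    refine T.fix_stab hΩ p (mul_mem (mul_mem hhH (T.rr_frame u v)) (inv_mem hhH)) (c := q) ?_
    set w := (h⁻¹ : GL ι F).val *ᵥ e q with hw
    have hzw : z.val *ᵥ w = -w := by
      rw [hw, hhinv, ← mul_act, hzh, mul_act, hzq, Matrix.mulVec_neg]
    have hw0 : ∀ l, l ∉ Mv → co B e ν l w = 0 := fun l hl =>
      not_mem_supp.mp fun h' => hl (hMsupp w hzw h')
    rw [mul_act (h * (rGL Q (e u) * rGL Q (e v))), mul_act h, ← hw, mul_act (rGL Q (e u)) (rGL Q (e v)), rGL_fix C (X.Qne v) (by rw [X.B_e, hw0 v hv.2, mul_zero]),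
      rGL_fix C (X.Qne u) (by rw [X.B_e, hw0 u hu.2, mul_zero]), hw, act_inv]
  -- `h` fixes the negated space
  have hhfix : ∀ w, z.val *ᵥ w = -w → h.val *ᵥ w = w := by
    intro w hw
    by_contra hne
    set w' := h.val *ᵥ w - w with hw'
    have hw'0 : w' ≠ 0 := sub_ne_zero.mpr hne
    have hzw' : z.val *ᵥ w' = -w' := by
      rw [hw', Matrix.mulVec_sub, ← mul_act, hzh, mul_act, hw, Matrix.mulVec_neg]; abel
    have h6 : (supp B e ν w').card ≤ 6 := (Finset.card_le_card (hMsupp w' hzw')).trans hMv6
    rcases hshort w' (hmov w) hw'0 h6 with hI' | ⟨ha', hc', hd', hb'⟩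
    swap
    · -- a fixed point free involution of three points
      have himg : ∀ q ∈ supp B e ν w', q ∈ S → π q ≠ q ∧ (π q = a ∨ π q = c ∨ π q = d) := by
        intro q hq hqS
        refine ⟨hnofix q (hMsupp w' hzw' hq), ?_⟩
        have h1 := (hm.neg_moved X hzw' hq).1
        have h2 := (hπS q).mp hqS
        simp only [hS, Finset.mem_insert, Finset.mem_singleton] at h2
        rcases h2 with h2 | h2 | h2 | h2
        exacts [Or.inl h2, absurd (h2 ▸ h1) hb', Or.inr (Or.inl h2), Or.inr (Or.inr h2)]
      obtain ⟨na, ia⟩ := himg a ha' (by simp [hS])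
      obtain ⟨nc, ic⟩ := himg c hc' (by simp [hS])
      obtain ⟨nd, id'⟩ := himg d hd' (by simp [hS])
      rcases ia with h | h | h
      · exact na h
      · have e1 : π c = a := by rw [← h, hinv]
        rcases id' with h' | h' | h'
        exacts [hcd (π.injective (e1.trans h'.symm)), had (π.injective (h.trans h'.symm)), nd h']
      · have e1 : π d = a := by rw [← h, hinv]
        rcases ic with h' | h' | h'
        exacts [hcd (π.injective (h'.trans e1.symm)), nc h', hac (π.injective (h.trans h'.symm))]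
    have hbw : b ∈ supp B e ν w' ∩ S := by rw [hI']; simp
    rw [Finset.mem_inter] at hbw
    have : π b ∈ supp B e ν w' ∩ S :=
      Finset.mem_inter.mpr ⟨(hm.neg_moved X hzw' hbw.1).1, (hπS b).mp hbw.2⟩
    rw [hI', Finset.mem_singleton] at this
    exact hnofix b (hMsupp w' hzw' hbw.1) this
  have htneg : ∀ w, z.val *ᵥ w = -w → t.val *ᵥ w = -w ∨ w = 0 := by
    intro w hw
    have ht2 : t.val *ᵥ (t.val *ᵥ w) = w := by
      rw [← mul_act, htsq, Units.val_one, Matrix.one_mulVec]
    have hpow : ∀ k : ℕ, (r ^ k).val *ᵥ w = if Even k then w else t.val *ᵥ w := by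
      intro k
      induction k with
      | zero => simp
      | succ k ih =>
        rw [pow_succ', mul_act, ih, hr, mul_act]
        by_cases hk : Even k
        · rw [if_pos hk, if_neg (by simp [Nat.even_add_one, hk]), hhfix w hw]
        · rw [if_neg hk, if_pos (by simp [Nat.even_add_one, hk]),
            hhfix (t.val *ᵥ w) (by rw [← mul_act, hzt, mul_act, hw, Matrix.mulVec_neg]), ht2]
    have h1 := hpow j
    rw [← hz, hw] at h1
    by_cases hk : Even j
    · rw [if_pos hk] at h1
      refine Or.inr (X.eq_zero fun l => ?_)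
      have := congrArg (co B e ν l) h1
      rw [co_neg] at this
      exact mul_left_cancel₀ X.two (by linear_combination -this)
    · rw [if_neg hk] at h1
      exact Or.inl h1.symm
  have hMS : ∀ q ∈ Mv, q ∈ S := by
    intro q hq
    by_contra hqS
    set w := z.val *ᵥ e q - e q with hw
    rcases htneg w (hzneg q) with h' | h'
    · have h2 := congrArg (co B e ν q) h'
      rw [htco, if_neg hqS, co_neg] at h2
      have hp := hnofix q hq
      have : co B e ν q w = -1 := by
        rw [hw, co_sub, hm.eq, co_smul, X.co_e, X.co_e, if_neg (Ne.symm hp), if_pos rfl]; ring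
      rw [this] at h2
      exact X.two (by linear_combination -h2)
    · exact (Finset.mem_filter.mp hq).2 (sub_eq_zero.mp h')
  have hperp : ∀ q ∈ Mv, Rel q (π q) := by
    intro q hq
    refine ⟨s q, hm.sq X q, fun v hv => ?_⟩
    have hw := hhfix _ (hzneg q)
    set w := z.val *ᵥ e q - e q with hw'
    have h0 : B w v = 0 := by
      have h1 := C.B_act hhI w v
      rw [hw, hnegP v hv, map_neg] at h1
      exact mul_left_cancel₀ X.two (by linear_combination -h1)
    rw [hw', map_sub, LinearMap.sub_apply, hm.eq, map_smul, LinearMap.smul_apply, X.B_e,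
      X.B_e, smul_eq_mul] at h0
    refine mul_left_cancel₀ X.two_nu ?_
    linear_combination (s q) * h0 - (2 * ν * co B e ν (π q) v) * hm.sq X q
  have hzb : b ∉ Mv := fun hb => by
    have hπb : π b ∈ S := (hπS b).mp (by simp [hS])
    have hp := hnofix b hb
    have hR := rsymm (hperp b hb)
    simp only [hS, Finset.mem_insert, Finset.mem_singleton] at hπb
    rcases hπb with h' | h' | h' | h'
    · exact hpair (Or.inl (h' ▸ hR))
    · exact hp h'
    · exact hpair (Or.inr (Or.inl (h' ▸ hR)))
    · exact hpair (Or.inr (Or.inr (h' ▸ hR)))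
  -- one orbit: a single reflection
  obtain ⟨q, hq⟩ : ∃ q, q ∈ Mv := by
    by_contra hall
    push Not at hall
    refine hz1 (gl_ext fun v => ?_)
    rw [Units.val_one, Matrix.one_mulVec]
    conv_lhs => rw [← X.expand v, Matrix.mulVec_sum]
    conv_rhs => rw [← X.expand v]
    refine Finset.sum_congr rfl fun l _ => ?_
    have hl := hall l
    rw [hMv, Finset.mem_filter] at hl
    push Not at hl
    rw [Matrix.mulVec_smul, hl (Finset.mem_univ l)]
  have hp := hnofix q hq
  have hqS := hMS q hq
  have hπq := (hπS q).mp hqS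
  have hsub : Mv ⊆ {q, π q} := by
    intro l hl
    simp only [Finset.mem_insert, Finset.mem_singleton]
    by_contra hne
    push Not at hne
    have hlp := hnofix l hl
    have hsub4 : ({q, π q, l, π l} : Finset (Fin n)) ⊆ S.erase b := by
      intro r hr
      simp only [Finset.mem_insert, Finset.mem_singleton] at hr
      have hrM : r ∈ Mv := by
        rcases hr with rfl | rfl | rfl | rfl
        exacts [hq, hMπ _ hq, hl, hMπ _ hl]
      exact Finset.mem_erase.mpr ⟨fun h' => hzb (h' ▸ hrM), hMS r hrM⟩
    have hc4 : ({q, π q, l, π l} : Finset (Fin n)).card = 4 := by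
      rw [Finset.card_insert_of_notMem, Finset.card_insert_of_notMem, Finset.card_pair hlp.symm]
      · simp only [Finset.mem_insert, Finset.mem_singleton, not_or]
        exact ⟨hne.2.symm, fun h' => hne.1 (π.injective h').symm⟩
      · simp only [Finset.mem_insert, Finset.mem_singleton, not_or]
        exact ⟨hp.symm, fun h' => hne.1 h'.symm, fun h' => hne.2 (by rw [h', hinv])⟩
    have := Finset.card_le_card hsub4
    have := Finset.card_erase_add_one (show b ∈ S by simp [hS])
    omega
  -- then the determinant is wrong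
  have hsq1 : (-s q) ^ 2 = 1 := by rw [neg_sq, hm.sq X q]
  have hzr : z = rGL Q (e q + (-s q) • e (π q)) := gl_ext fun v => X.ext fun l => by
    obtain ⟨l', rfl⟩ := π.surjective l
    rw [hm.co_act X, X.co_root hp.symm _ hsq1]
    by_cases h1 : l' = q
    · subst h1
      rw [if_neg hp, if_pos rfl, neg_neg]
    by_cases h2 : l' = π q
    · subst h2
      have hs2 : s (π q) = s q := by
        have h3 := congrArg (fun g : GL ι F => co B e ν q (g.val *ᵥ e q)) hzsq
        simp only [mul_act, hm.eq, Matrix.mulVec_smul, hinv, co_smul, Units.val_one,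
          Matrix.one_mulVec, X.co_e, if_true, mul_one] at h3
        linear_combination (s q) * h3 - s (π q) * hm.sq X q
      rw [hinv, if_pos rfl, hs2, neg_neg]
    have hnot : l' ∉ Mv := fun h' => by
      have := hsub h'
      simp [h1, h2] at this
    rw [hMv, Finset.mem_filter] at hnot
    push Not at hnot
    have he := hnot (Finset.mem_univ l')
    rw [hm.eq] at he
    have hfix : π l' = l' := by
      by_contra h'
      have h3 := congrArg (co B e ν l') he
      rw [co_smul, X.co_e, X.co_e, if_neg (Ne.symm h'), if_pos rfl, mul_zero] at h3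
      exact zero_ne_one h3
    have hs1 : s l' = 1 := by
      rw [hfix] at he
      have h3 := congrArg (co B e ν l') he
      rw [co_smul, X.co_e, if_pos rfl, mul_one] at h3
      exact h3
    rw [hfix, if_neg h1, if_neg h2, hs1, one_mul]
  have hdet : z.val.det = 1 := by
    have d1 : t.val.det = 1 := by
      rw [ht, flip4, Units.val_mul, Units.val_mul, Units.val_mul, Matrix.det_mul, Matrix.det_mul,
        Matrix.det_mul, rGL_det C (X.Qne a), rGL_det C (X.Qne b), rGL_det C (X.Qne c),
        rGL_det C (X.Qne d)]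
      ring
    have d2 : h.val.det = 1 := by
      rw [hhr, Units.val_mul, Matrix.det_mul, rGL_det C hQ1, rGL_det C hQ2]; ring
    rw [hz, Units.val_pow_eq_pow_val, Matrix.det_pow, hr, Units.val_mul, Matrix.det_mul, d1, d2,
      one_mul, one_pow]
  rw [hzr, rGL_det C (X.root_ne hp.symm _ hsq1)] at hdet
  exact X.two (by linear_combination -hdet)

/-- An overgroup not containing `Ω` stabilises the frame. -/
theorem Ctx.le_stab :
    H ≤ Cfsg.Geo.decompositionStabilizer (fun i => Submodule.span F {e i}) := fun g hg =>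
  T.mem_of_conj hΩ p hg (U := Finset.univ) (by
    have := T.frame.big
    rw [Finset.card_univ, Fintype.card_fin]
    omega) fun _ _ _ _ huv => T.pair_mem hΩ p hg huv

end Ctx

end Cfsg.Lib.Linear.FrameMax
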