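import Cfsg.Agent.Lib.Linear.FrameMax.Basic
import Cfsg.Agent.Lib.Linear.OrthRule

/-!
# A root element gives `Ω`
-/

set_option autoImplicit false

namespace Cfsg.Lib.Linear.FrameMax

open Module Cfsg.Lib.Linear.Orth
open scoped Matrix

variable {ι : Type} [Fintype ι] [DecidableEq ι] {F : Type*} [Field F] [Finite F]
  {Q : (ι → F) → F} {B : LinearMap.BilinForm F (ι → F)}
  {n : ℕ} {e : Fin n → (ι → F)} {ν : F} {H : Subgroup (GL ι F)}

variable (T : Ctx Q B e ν H)

include T

/-- The axes of the root elements of `H` with one centre form a subspace. -/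
def Ctx.axes {u : ι → F} (hu : Q u = 0) : Submodule F (ι → F) where
  carrier := {b | B u b = 0 ∧ sGL Q B u b ∈ H}
  add_mem' := fun {a b} ha hb => ⟨by rw [map_add, ha.1, hb.1, add_zero], by
    rw [← sGL_mul T.frame.space hu ha.1 hb.1]; exact mul_mem ha.2 hb.2⟩
  zero_mem' := ⟨map_zero _, by
    have h : sGL Q B u (0 : ι → F) = 1 := gl_ext fun x => by
      rw [sGL_act T.frame.space hu (map_zero _), T.frame.space.zero]; simp
    rw [h]; exact one_mem H⟩
  smul_mem' := fun c b hb => by
    have C := T.frame.space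
    obtain ⟨m, rfl⟩ := T.prime c
    induction m with
    | zero =>
      rw [Nat.cast_zero, zero_smul]
      refine ⟨map_zero _, ?_⟩
      have h : sGL Q B u (0 : ι → F) = 1 := gl_ext fun x => by
        rw [sGL_act C hu (map_zero _), C.zero]; simp
      rw [h]; exact one_mem H
    | succ m ih =>
      rw [Nat.cast_succ, add_smul, one_smul]
      exact ⟨by rw [map_add, ih.1, hb.1, add_zero], by
        rw [← sGL_mul C hu ih.1 hb.1]; exact mul_mem ih.2 hb.2⟩

theorem Ctx.mem_axes {u b : ι → F} (hu : Q u = 0) :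
    b ∈ T.axes hu ↔ B u b = 0 ∧ sGL Q B u b ∈ H := Iff.rfl

theorem Ctx.axes_act {u b : ι → F} (hu : Q u = 0) {g : GL ι F} (hg : g ∈ H)
    (hgu : g.val *ᵥ u = u) (hb : b ∈ T.axes hu) : g.val *ᵥ b ∈ T.axes hu := by
  have C := T.frame.space
  refine ⟨by conv_lhs => rw [← hgu]
             rw [C.B_act (T.le_iso hg)]; exact hb.1, ?_⟩
  have := mul_mem (mul_mem hg hb.2) (inv_mem hg)
  rwa [sGL_conj C hu hb.1 (T.le_iso hg), hgu] at this

/-- Every frame vector off the centre is an axis. -/
def Ctx.Good (u : ι → F) : Prop := ∀ hu : Q u = 0, ∀ k, k ∉ supp B e ν u → e k ∈ T.axes hu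

open Classical in
theorem Ctx.good_of_axis {u b : ι → F} (hu : Q u = 0) (hb : b ∈ T.axes hu)
    (h4 : (supp B e ν u).card + 4 ≤ n) {k : Fin n} (hku : k ∉ supp B e ν u)
    (hkb : co B e ν k b ≠ 0) : T.Good u := by
  have X := T.frame
  have C := X.space
  intro _
  set A := supp B e ν u with hA
  have hout : 4 ≤ (Finset.univ \ A).card := by
    rw [Finset.card_sdiff_of_subset (Finset.subset_univ _), Finset.card_univ, Fintype.card_fin]
    omega
  have pair : ∀ a c : Fin n, a ≠ c → a ∉ A → c ∉ A →
      co B e ν a b • e a + co B e ν c b • e c ∈ T.axes hu := by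
    intro a c hac ha hc
    have hg := T.axes_act hu (T.rr_frame a c) (X.ext fun l => by
      rw [mul_act, X.co_refl, X.co_refl]
      split_ifs with h1 h2 <;> simp_all [not_mem_supp, A]) hb
    have h := (T.axes hu).smul_mem (2⁻¹ : F) ((T.axes hu).sub_mem hb hg)
    convert h using 1
    refine X.ext fun l => ?_
    rw [co_add, co_smul, co_smul, co_smul, co_sub, mul_act, X.co_refl, X.co_refl, X.co_e, X.co_e]
    have := X.two
    split_ifs <;> simp_all <;> field_simp <;> ring
  obtain ⟨a, ha, c, hc, hac⟩ := Finset.one_lt_card.mp (show 1 < ((Finset.univ \ A).erase k).card by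
    have := Finset.card_erase_add_one (Finset.mem_sdiff.mpr ⟨Finset.mem_univ k, hku⟩)
    omega)
  simp only [Finset.mem_erase, Finset.mem_sdiff, Finset.mem_univ, true_and] at ha hc
  have hk : e k ∈ T.axes hu := by
    have h := (T.axes hu).smul_mem ((2 * co B e ν k b)⁻¹)
      ((T.axes hu).sub_mem ((T.axes hu).add_mem (pair k a (Ne.symm ha.1) hku ha.2)
        (pair k c (Ne.symm hc.1) hku hc.2)) (pair a c hac ha.2 hc.2))
    convert h using 1
    have := X.two
    match_scalars <;> field_simp <;> ring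
  intro l hl
  by_cases hlk : l = k
  · exact hlk ▸ hk
  obtain ⟨l', hl', l'', hl'', hll⟩ := Finset.one_lt_card.mp
    (show 1 < (((Finset.univ \ A).erase k).erase l).card by
      have h1 := Finset.card_erase_add_one (Finset.mem_sdiff.mpr ⟨Finset.mem_univ k, hku⟩)
      have h2 := Finset.card_erase_add_one (Finset.mem_erase.mpr
        ⟨hlk, Finset.mem_sdiff.mpr ⟨Finset.mem_univ l, hl⟩⟩)
      omega)
  simp only [Finset.mem_erase, Finset.mem_sdiff, Finset.mem_univ, true_and] at hl' hl''
  have h1 : ((-1 : F)) ^ 2 = 1 := by norm_num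
  have hg := T.rr_root (Ne.symm hlk) hll h1 h1
  have h := T.axes_act hu hg (X.ext fun m => by
    rw [mul_act, X.co_root (Ne.symm hlk) _ h1, X.co_root hll _ h1, X.co_root hll _ h1,
      X.co_root hll _ h1]
    split_ifs <;> simp_all [not_mem_supp, A]) hk
  convert h using 1
  refine X.ext fun m => ?_
  rw [mul_act, X.co_root (Ne.symm hlk) _ h1, X.co_root hll _ h1, X.co_root hll _ h1,
    X.co_root hll _ h1, X.co_e, X.co_e, X.co_e, X.co_e, X.co_e]
  split_ifs <;> simp_all [X.co_e]

/-- `u` lies in the span of the frame vectors of its support. -/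
theorem Ctx.mem_of_supp {M : Submodule F (ι → F)} {w : ι → F}
    (h : ∀ l ∈ supp B e ν w, e l ∈ M) : w ∈ M := by
  rw [← T.frame.expand w]
  refine M.sum_mem fun l _ => ?_
  by_cases hl : l ∈ supp B e ν w
  · exact M.smul_mem _ (h l hl)
  · rw [not_mem_supp.mp hl, zero_smul]; exact M.zero_mem

/-- Disjoint singular centres. -/
theorem Ctx.good_move {w w' : ι → F} (hg : T.Good w) (hw : Q w = 0) (hw0 : w ≠ 0) (hw' : Q w' = 0)
    (hd : ∀ l ∈ supp B e ν w', l ∉ supp B e ν w) (h4 : (supp B e ν w').card + 4 ≤ n) :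
    T.Good w' := by
  have X := T.frame
  have C := X.space
  obtain ⟨h1, h2⟩ : w' ∈ T.axes hw := T.mem_of_supp fun l hl => hg hw l (hd l hl)
  rw [sGL_swap C hw hw' h1] at h2
  obtain ⟨k, hk⟩ : ∃ k, k ∈ supp B e ν w := by
    by_contra h
    push Not at h
    exact hw0 (X.eq_zero fun i => not_mem_supp.mp (h i))
  refine T.good_of_axis hw' (b := -w) ⟨by rw [map_neg, C.symm, h1, neg_zero], h2⟩ h4
    (fun h => hd k h hk) ?_
  rw [co_neg, neg_ne_zero]
  exact mem_supp.mp hk

open Classical in
/-- A singular vector on three given indices. -/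
theorem Ctx.exists_triple (S : Finset (Fin n)) (hS : 3 ≤ S.card) :
    ∃ w, w ≠ 0 ∧ Q w = 0 ∧ ∀ l ∈ supp B e ν w, l ∈ S := by
  have X := T.frame
  obtain ⟨w, hw, hw0, hQw⟩ := Sing.exists_singular X.space.smul X.space.polar
    (Submodule.span F (e '' (S : Set (Fin n)))) (by
      have hli : LinearIndependent F (fun i : S => e i.1) :=
        X.indep.comp _ Subtype.val_injective
      have h := finrank_span_eq_card hli
      rw [show Set.range (fun i : S => e i.1) = e '' (S : Set (Fin n)) by
        ext x; simp] at h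
      rw [h, Fintype.card_coe]
      exact hS)
  refine ⟨w, hw0, hQw, fun l hl => ?_⟩
  by_contra hlS
  have hle : Submodule.span F (e '' (S : Set (Fin n))) ≤ LinearMap.ker (B (e l)) :=
    Submodule.span_le.mpr (by
      rintro _ ⟨i, hi, rfl⟩
      exact LinearMap.mem_ker.mpr (X.orth l i (fun h => hlS (h ▸ hi))))
  have := LinearMap.mem_ker.mp (hle hw)
  rw [X.B_e] at this
  exact mem_supp.mp hl ((mul_eq_zero.mp this).resolve_left X.two_nu)

open Classical in
/-- A root element whose axis leaves the support of a centre of size at most `n - 4` gives `Ω`. -/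
theorem Ctx.omega_of_root {u b : ι → F} (hu0 : u ≠ 0) (hu : Q u = 0) (hub : B u b = 0)
    (hH : sGL Q B u b ∈ H) (h4 : (supp B e ν u).card + 4 ≤ n) {k : Fin n}
    (hku : k ∉ supp B e ν u) (hkb : co B e ν k b ≠ 0) : Cfsg.Geo.omegaGL Q ≤ H := by
  have X := T.frame
  have C := X.space
  have hn := X.big
  have hgu := T.good_of_axis hu (b := b) ⟨hub, hH⟩ h4 hku hkb
  have hcompl : ∀ S : Finset (Fin n), (Finset.univ \ S).card = n - S.card := fun S => by
    rw [Finset.card_sdiff_of_subset (Finset.subset_univ _), Finset.card_univ, Fintype.card_fin]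
  have small : ∀ w, w ≠ 0 → Q w = 0 → (supp B e ν w).card ≤ 5 → T.Good w := by
    intro w hw0 hw h5
    by_cases hout : ∃ l ∈ supp B e ν w, l ∉ supp B e ν u
    swap
    · push Not at hout
      obtain ⟨T1, hT1, hc1⟩ := Finset.exists_subset_card_eq
        (s := Finset.univ \ supp B e ν u) (n := 3) (by rw [hcompl]; omega)
      obtain ⟨w1, hw10, hQ1, hs1⟩ := T.exists_triple T1 hc1.ge
      have h1 : T.Good w1 := T.good_move hgu hu hu0 hQ1
        (fun l hl => (Finset.mem_sdiff.mp (hT1 (hs1 l hl))).2)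
        (by have := Finset.card_le_card (show supp B e ν w1 ⊆ T1 from hs1); omega)
      exact T.good_move h1 hQ1 hw10 hw
        (fun l hl hl' => (Finset.mem_sdiff.mp (hT1 (hs1 l hl'))).2 (hout l hl)) (by omega)
    obtain ⟨l₀, hl₀, hl₀u⟩ := hout
    obtain ⟨T1, hl₁, hT1, hc1⟩ := Finset.exists_subsuperset_card_eq (s := {l₀})
      (t := Finset.univ \ supp B e ν u) (n := 3) (by simpa using hl₀u) (by simp)
      (by rw [hcompl]; omega)
    obtain ⟨w1, hw10, hQ1, hs1⟩ := T.exists_triple T1 hc1.ge
    have h1 : T.Good w1 := T.good_move hgu hu hu0 hQ1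
      (fun l hl => (Finset.mem_sdiff.mp (hT1 (hs1 l hl))).2)
      (by have := Finset.card_le_card (show supp B e ν w1 ⊆ T1 from hs1); omega)
    obtain ⟨T2, hT2, hc2⟩ := Finset.exists_subset_card_eq
      (s := Finset.univ \ (T1 ∪ supp B e ν w)) (n := 3) (by
        rw [hcompl]
        have := Finset.card_union_add_card_inter T1 (supp B e ν w)
        have : 0 < (T1 ∩ supp B e ν w).card := Finset.card_pos.mpr
          ⟨l₀, Finset.mem_inter.mpr ⟨hl₁ (Finset.mem_singleton_self _), hl₀⟩⟩
        omega)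
    obtain ⟨w2, hw20, hQ2, hs2⟩ := T.exists_triple T2 hc2.ge
    have h2 : T.Good w2 := T.good_move h1 hQ1 hw10 hQ2
      (fun l hl hl' => (Finset.mem_sdiff.mp (hT2 (hs2 l hl))).2
        (Finset.mem_union_left _ (hs1 l hl')))
      (by have := Finset.card_le_card (show supp B e ν w2 ⊆ T2 from hs2); omega)
    exact T.good_move h2 hQ2 hw20 hw
      (fun l hl hl' => (Finset.mem_sdiff.mp (hT2 (hs2 l hl'))).2 (Finset.mem_union_right _ hl))
      (by omega)
  obtain ⟨S5, -, hc5⟩ := Finset.exists_subset_card_eq (s := (Finset.univ : Finset (Fin n))) (n := 5)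
    (by rw [Finset.card_univ, Fintype.card_fin]; omega)
  obtain ⟨S3, hS3, hc3⟩ := Finset.exists_subset_card_eq (s := S5) (n := 3) (by omega)
  set U := Submodule.span F (e '' (S5 : Set (Fin n))) with hU
  have heU : ∀ l ∈ S5, e l ∈ U := fun l hl => Submodule.subset_span ⟨l, hl, rfl⟩
  have hUs : ∀ x ∈ U, ∀ l, l ∉ S5 → co B e ν l x = 0 := by
    intro x hx l hl
    have hle : U ≤ LinearMap.ker (B (e l)) := Submodule.span_le.mpr (by
      rintro _ ⟨i, hi, rfl⟩
      exact LinearMap.mem_ker.mpr (X.orth l i (fun h => hl (h ▸ hi))))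
    have := LinearMap.mem_ker.mp (hle hx)
    rw [X.B_e] at this
    exact (mul_eq_zero.mp this).resolve_left X.two_nu
  have hUn : NDeg B U := fun x hx h => X.eq_zero fun l => by
    by_cases hl : l ∈ S5
    · have := h (e l) (heU l hl)
      rw [C.symm, X.B_e] at this
      exact (mul_eq_zero.mp this).resolve_left X.two_nu
    · exact hUs x hx l hl
  have hU5 : finrank F U = 5 := by
    have hli : LinearIndependent F (fun i : S5 => e i.1) := X.indep.comp _ Subtype.val_injective
    have h := finrank_span_eq_card hli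
    rw [show Set.range (fun i : S5 => e i.1) = e '' (S5 : Set (Fin n)) by ext x; simp] at h
    rw [hU, h, Fintype.card_coe, hc5]
  have centre : ∀ {w f : ι → F}, Hyp Q B U w f → Centre Q B H w := by
    intro w f hf
    have hw : Q w = 0 := hf.singE
    have hw0 : w ≠ 0 := fun h => by
      have := hf.pair; rw [h, map_zero, LinearMap.zero_apply] at this; exact zero_ne_one this
    have hws : ∀ l, l ∉ S5 → co B e ν l w = 0 := hUs w hf.memE
    have hsub : ∀ {z : ι → F}, z ∈ U → supp B e ν z ⊆ S5 := fun {z} hz l hl => by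
      by_contra h; exact mem_supp.mp hl (hUs z hz l h)
    have h5 : (supp B e ν w).card ≤ 5 := by
      have := Finset.card_le_card (hsub hf.memE); omega
    have gw := small w hw0 hw h5
    have hout : ∀ l, l ∉ S5 → e l ∈ T.axes hw := fun l hl => gw hw l (not_mem_supp.mpr (hws l hl))
    obtain ⟨l, hl⟩ := Finset.card_pos.mp (show 0 < (Finset.univ \ S5).card by rw [hcompl]; omega)
    rw [Finset.mem_sdiff] at hl
    have hperp : ∀ z ∈ U, B w z = 0 → Q z = 0 → z ∈ T.axes hw := by
      intro z hz hwz hQz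
      by_cases hz0 : z = 0
      · rw [hz0]; exact (T.axes hw).zero_mem
      have gz := small z hz0 hQz (by have := Finset.card_le_card (hsub hz); omega)
      obtain ⟨hzl, hzH⟩ := gz hQz l (not_mem_supp.mpr (hUs z hz l hl.2))
      have hlw : B (e l) w = 0 := by rw [X.B_e, hws l hl.2, mul_zero]
      have hlz : B (e l) z = 0 := by rw [X.B_e, hUs z hz l hl.2, mul_zero]
      have h1 := T.axes_act hw hzH (by
        rw [sGL_act C hQz hzl, C.symm z w, hwz, hlw]; simp) (hout l hl.2)
      rw [sGL_act C hQz hzl, C.symm z (e l), hlz, X.self, X.norm] at h1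
      have h2 := (T.axes hw).smul_mem ((2 * ν)⁻¹) ((T.axes hw).sub_mem (hout l hl.2) h1)
      convert h2 using 1
      have := X.two
      have := X.nu
      match_scalars <;> field_simp <;> ring
    have hwM : w ∈ T.axes hw := by
      refine ⟨C.self_zero hw, ?_⟩
      have h : sGL Q B w ((1 : F) • w) = 1 := gl_ext fun x => by
        rw [one_smul, sGL_act C hw (C.self_zero hw), hw]; simp
      rw [one_smul] at h
      rw [h]; exact one_mem H
    intro b hb
    have hP : perp2 B U w f ≤ T.axes hw := (span_sing C (hf.ndeg C hUn) (by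
      have := hf.le_finrank C; omega)).trans (Submodule.span_le.mpr fun z hz => by
        obtain ⟨hzU, hwz, -⟩ := mem_perp2.mp hz.1
        exact hperp z hzU hwz hz.2)
    suffices h : b ∈ T.axes hw from h.2
    set b' := ∑ i ∈ S5, co B e ν i b • e i with hb'
    have hb'U : b' ∈ U := U.sum_mem fun i hi => U.smul_mem _ (heU i hi)
    have hbe : b = b' + ∑ i ∈ Finset.univ \ S5, co B e ν i b • e i := by
      conv_lhs => rw [← X.expand b]
      rw [add_comm, hb', Finset.sum_sdiff (Finset.subset_univ _)]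
    have hrest : ∑ i ∈ Finset.univ \ S5, co B e ν i b • e i ∈ T.axes hw :=
      (T.axes hw).sum_mem fun i hi => (T.axes hw).smul_mem _ (hout i (Finset.mem_sdiff.mp hi).2)
    rw [hbe]
    refine (T.axes hw).add_mem ?_ hrest
    have hwb' : B w b' = 0 := by
      have := hb
      rw [hbe, map_add, hrest.1, add_zero] at this
      exact this
    have hp := hf.proj C hb'U
    rw [hwb', zero_smul, sub_zero] at hp
    rw [show b' = (b' - B f b' • w) + B f b' • w by abel]
    exact (T.axes hw).add_mem (hP hp) ((T.axes hw).smul_mem _ hwM)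
  obtain ⟨w, hw0, hQw, hws⟩ := T.exists_triple S3 hc3.ge
  have hwU : w ∈ U := T.mem_of_supp fun l hl => heU l (hS3 (hws l hl))
  obtain ⟨f, hf⟩ := exists_hyp C hUn hwU hw0 hQw
  refine omega_le_of_two C X.five T.le_iso hQw hf.singF (by rw [hf.pair]; exact one_ne_zero)
    (centre hf) (centre (w := f) (f := w) ⟨hf.memF, hf.memE, hf.singF, hf.singE, hf.pair' C⟩)

end Cfsg.Lib.Linear.FrameMax
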